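import Groth.Agent.GIT36.Proj.WeightStable

/-!
The action pulls weight functions back to weight functions, and the unit measuring non-invariance.
-/

set_option autoImplicit false
set_option backward.isDefEq.respectTransparency.types false
set_option linter.style.haveILetI false
set_option linter.unusedSectionVars false

universe u

open CategoryTheory CategoryTheory.Limits MonoidalCategory CartesianMonoidalCategory MonObj GrpObj AlgebraicGeometry
  Opposite TopologicalSpace
open Groth.Agent.GIT36.Sections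

noncomputable section

namespace Groth.Agent.GIT36.SSRed

variable {S : Scheme.{u}} {G X : Over S} [GrpObj G] {a : AlgGrp.Action G X} (B : GLinSh.LinBun G a)

theorem isPullback_prod : IsPullback (snd G B.V).left (G ◁ B.π).left B.π.left (snd G X).left :=
  (Quot.isPullback_whiskerLeft_left G B.π).flip

theorem isAffineHom_prod : IsAffineHom (G ◁ B.π).left :=
  haveI := B.atlas.affine
  MorphismProperty.of_isPullback (isPullback_prod B) (inferInstanceAs (IsAffineHom B.π.left))

/-- the atlas on `G × V` -/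
def prodAtlas : Atlas (G ◁ B.π).left :=
  haveI := B.atlas.affine
  haveI := isAffineHom_prod B
  (atlasB B).pull (isPullback_prod B)

/-- pulling back a weight function along the action gives a weight function -/
theorem wt_act {n : ℕ} {f : Γ(B.V.left, ⊤)} (hf : GLinSh.HasWeight B.atlas.chart n f) :
    (prodAtlas B).Wt n (B.lift.act.left.appTop f) := by
  haveI := B.atlas.affine
  haveI := isAffineHom_prod B
  intro U'' y'' hy''
  refine Proj.exists_coef_of_locally ((prodAtlas B).coord U'' y'' hy'') n _ fun z hz => ?_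
  obtain ⟨U, y, e, hy, rfl⟩ := hy''
  obtain ⟨U', hxU', y', hy'⟩ := B.atlas.cover (a.act.left.base z)
  obtain ⟨d, hd⟩ := hf U' y' hy'
  obtain ⟨c, hc⟩ := B.lift_linear U U' y y' hy hy'
  let W : (G ⊗ X).left.Opens := U'' ⊓ a.act.left ⁻¹ᵁ U'
  let T : (G ⊗ X).left.Opens := a.act.left ⁻¹ᵁ U' ⊓ (snd G X).left ⁻¹ᵁ U
  have hWT : W ≤ T := le_inf inf_le_right (inf_le_left.trans e)
  have hWO : (G ◁ B.π).left ⁻¹ᵁ W ≤ GLinSh.liftOpen a B.π U U' := fun v hv =>
    ⟨(hWT hv).1, (hWT hv).2⟩
  have hwa : B.lift.act.left ≫ B.π.left = (G ◁ B.π).left ≫ a.act.left := by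
    rw [← Over.comp_left, ← Over.comp_left, B.lift_π]
  have hws : (snd G B.V).left ≫ B.π.left = (G ◁ B.π).left ≫ (snd G X).left := (isPullback_prod B).w
  have ea : (G ◁ B.π).left ⁻¹ᵁ W ≤ B.lift.act.left ⁻¹ᵁ (B.π.left ⁻¹ᵁ U') :=
    le_preimage_of_comm hwa (inf_le_right : W ≤ _)
  let cW : Γ((G ⊗ X).left, W) := rs hWT c
  refine ⟨W, inf_le_left, ⟨hz, hxU'⟩, a.act.left.appLE U' W inf_le_right d * cW ^ n, ?_⟩
  have key : B.lift.act.left.appLE (B.π.left ⁻¹ᵁ U') ((G ◁ B.π).left ⁻¹ᵁ W) ea y' =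
      (G ◁ B.π).left.app W cW *
        rs ((G ◁ B.π).left.preimage_mono (inf_le_left : W ≤ U''))
          ((snd G B.V).left.appLE (B.π.left ⁻¹ᵁ U) ((G ◁ B.π).left ⁻¹ᵁ U'') (le_preimage_of_comm hws e) y) := by
    have h := congrArg (rs hWO) hc
    rw [rs_mul] at h
    refine Eq.trans ?_ (h.trans (congrArg₂ (· * ·) ?_ ?_))
    · simp only [rs, ← CommRingCat.comp_apply, Scheme.Hom.appLE_map]
    · simp only [cW, rs, Scheme.Hom.app_eq_appLE, ← CommRingCat.comp_apply, Scheme.Hom.appLE_map,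
        Scheme.Hom.map_appLE]
      rfl
    · simp only [rs, ← CommRingCat.comp_apply, Scheme.Hom.appLE_map]
      rfl
  rw [rs_appTop f ea, show rs le_top f = B.π.left.app U' d * y' ^ n from hd, map_mul, map_pow, key, mul_pow,
    map_mul ((G ◁ B.π).left.app W).hom, map_pow, _root_.mul_assoc]
  exact congrArg (· * _) (appLE_app hwa inf_le_right d)

/-- the unit measuring non-invariance -/
theorem exists_defect {N : ℕ} (hN : 1 ≤ N) {F : Γ(B.V.left, ⊤)} (hF : GLinSh.HasWeight B.atlas.chart N F)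
    (hnil : IsNilpotent (B.lift.act.left.appTop F - (snd G B.V).left.appTop F))
    {U : X.left.Opens} (hU : (U : Set X.left) = GLinSh.nonvanishing B.π F) :
    ∃ u : Γ((G ⊗ X).left, (snd G X).left ⁻¹ᵁ U), IsNilpotent (u - 1) ∧
      IsRatio (G ◁ B.π).left ((snd G B.V).left.appTop F) (B.lift.act.left.appTop F) u := by
  haveI := B.atlas.affine
  haveI := isAffineHom_prod B
  let pF := (snd G B.V).left.appTop F
  let aF := B.lift.act.left.appTop F
  let π' := (G ◁ B.π).left
  let E := (snd G X).left ⁻¹ᵁ U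
  have hp : (prodAtlas B).Wt N pF := Atlas.Wt.pull (A := atlasB B) (isPullback_prod B) hF
  have hE : (E : Set (G ⊗ X).left) ⊆ nv π' pF := by
    show _ ⊆ nv (G ◁ B.π).left ((snd G B.V).left.appTop F)
    rw [nv_pull (isPullback_prod B), nv_eq, ← hU]
    exact subset_rfl
  obtain ⟨u, hu⟩ := exists_ratio (A := prodAtlas B) hp (wt_act B hF) hE
  refine ⟨u, ?_, hu⟩
  obtain ⟨e, he⟩ := hnil
  have he' : (aF - pF) ^ (e + 1) = 0 := by rw [pow_succ, he, zero_mul]
  refine ⟨e + 1, ratio_unique (A := prodAtlas B) (hp.pow (e + 1)) (W := E) ?_ ?_⟩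
  · rw [nv_pow _ (Nat.succ_pos e)]
    exact hE
  · have hu' : π'.app E u * rs le_top pF = rs le_top aF := hu
    rw [map_zero, zero_mul, map_pow, rs_pow, ← mul_pow, map_sub, map_one, sub_mul, _root_.one_mul, hu']
    have : rs (le_top : π' ⁻¹ᵁ E ≤ ⊤) (aF - pF) = rs le_top aF - rs le_top pF := map_sub _ _ _
    rw [← this, ← rs_pow, he', rs_zero]

end Groth.Agent.GIT36.SSRed
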