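import Groth.Agent.LinRed34.Basic
import Groth.Agent.Comod33.CartierReduced
import Groth.Agent.Comod33.Act
import Mathlib.LinearAlgebra.Dual.Lemmas
import Mathlib.RingTheory.Nilpotent.Lemmas

/-!
The Reynolds projection as contraction with an invariant functional, and what it does to nilpotents.
-/

set_option autoImplicit false
set_option linter.style.haveILetI false
set_option linter.unusedSectionVars false

universe u v w

open TensorProduct HopfRep

noncomputable section

namespace Groth.Agent.GIT36.SSRed

variable {k : Type u} [Field k] {A : Type u} [CommRing A] [HopfAlgebra k A]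

/-- the invariant functional -/
def lam (hLR : IsLinearlyReductive k A) : A →ₗ[k] k :=
  (CoalgebraStruct.counit (R := k) (A := A)).comp (LinRed34.rey k A A hLR)

theorem lam_one (hLR : IsLinearlyReductive k A) : lam hLR 1 = 1 := by
  have h1 : (1 : A) ∈ fixedPts k A A := by
    show CoalgebraStruct.comul (R := k) (1 : A) = (1 : A) ⊗ₜ[k] (1 : A)
    rw [Bialgebra.comul_one, Algebra.TensorProduct.one_def]
  rw [lam, LinearMap.comp_apply, LinRed34.rey_of_fixed hLR h1]
  exact Bialgebra.counit_one

/-- contraction with a functional -/
def contract {V : Type w} [AddCommGroup V] [Module k V] (f : A →ₗ[k] k) : V ⊗[k] A →ₗ[k] V :=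
  (TensorProduct.rid k V).toLinearMap.comp (f.lTensor V)

@[simp] theorem contract_tmul {V : Type w} [AddCommGroup V] [Module k V] (f : A →ₗ[k] k) (x : V) (a : A) :
    contract f (x ⊗ₜ[k] a) = f a • x := by simp [contract]

/-- the Reynolds projection is contraction with the invariant functional -/
theorem rey_eq (hLR : IsLinearlyReductive k A) {V : Type w} [AddCommGroup V] [Module k V] [Comod k A V] (x : V) :
    LinRed34.rey k A V hLR x = contract (lam hLR) (Comod.coact (k := k) (A := A) x) := by
  refine sub_eq_zero.1 ((Module.forall_dual_apply_eq_zero_iff k _).1 fun φ => ?_)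
  let c : V →ₗ[k] A := (TensorProduct.lid k A).toLinearMap ∘ₗ φ.rTensor A ∘ₗ Comod.coact (k := k) (A := A)
  have hc : Hoch.IsComodHom A c := by
    refine LinearMap.ext fun y => ?_
    simp only [LinearMap.comp_apply, c, LinearEquiv.coe_coe]
    have h := LinearMap.congr_fun (Comod.coassoc (k := k) (A := A) (V := V)) y
    simp only [LinearMap.comp_apply, LinearEquiv.coe_coe] at h
    let T : V ⊗[k] (A ⊗[k] A) →ₗ[k] A ⊗[k] A :=
      (TensorProduct.lid k (A ⊗[k] A)).toLinearMap ∘ₗ φ.rTensor (A ⊗[k] A)
    have L1 : ∀ z : V ⊗[k] A, CoalgebraStruct.comul (R := k) (TensorProduct.lid k A (φ.rTensor A z)) =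
        T ((CoalgebraStruct.comul (R := k) (A := A)).lTensor V z) := by
      intro z
      induction z with
      | zero => simp
      | add p q hp hq => simp only [map_add, hp, hq]
      | tmul p q => simp [T]
    have L2 : ∀ z : V ⊗[k] A, ((TensorProduct.lid k A).toLinearMap ∘ₗ φ.rTensor A ∘ₗ
        Comod.coact (k := k) (A := A)).rTensor A z =
        T (TensorProduct.assoc k V A A ((Comod.coact (k := k) (A := A) (V := V)).rTensor A z)) := by
      intro z
      induction z with
      | zero => simp
      | add p q hp hq => simp only [map_add, hp, hq]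
      | tmul p q =>
        simp only [LinearMap.rTensor_tmul, LinearMap.comp_apply, LinearEquiv.coe_coe]
        generalize Comod.coact (k := k) (A := A) p = t
        induction t with
        | zero => simp
        | add a b ha hb => simp only [map_add, TensorProduct.add_tmul, ha, hb]
        | tmul a b => simp [T, TensorProduct.smul_tmul']
    show CoalgebraStruct.comul (R := k) _ = _
    rw [L1, L2, h]
  have hcounit : ∀ y, CoalgebraStruct.counit (R := k) (c y) = φ y := by
    intro y
    have h := LinearMap.congr_fun (Comod.counit_comp (k := k) (A := A) (V := V)) y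
    simp only [LinearMap.comp_apply, LinearMap.flip_apply, TensorProduct.mk_apply] at h
    have h' := congrArg (fun z => φ (TensorProduct.rid k V z)) h
    simp only [TensorProduct.rid_tmul, one_smul] at h'
    rw [← h']
    simp only [c, LinearMap.comp_apply, LinearEquiv.coe_coe]
    generalize Comod.coact (k := k) (A := A) y = z
    induction z with
    | zero => simp
    | add p q hp hq => simp only [map_add, hp, hq]
    | tmul p q => simp [mul_comm]
  have key : φ (LinRed34.rey k A V hLR x) = lam hLR (c x) := by
    rw [← hcounit, LinRed34.map_rey hLR hc]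
    rfl
  have key2 : φ (contract (lam hLR) (Comod.coact (k := k) (A := A) x)) = lam hLR (c x) := by
    simp only [c, LinearMap.comp_apply, LinearEquiv.coe_coe]
    generalize Comod.coact (k := k) (A := A) x = z
    induction z with
    | zero => simp
    | add p q hp hq => simp only [map_add, hp, hq]
    | tmul p q => simp [mul_comm]
  rw [map_sub, key, key2, sub_self]

/-- contraction sends nilpotents to nilpotents -/
theorem isNilpotent_contract [CharZero k] [Algebra.FiniteType k A] {R : Type u} [CommRing R] [Algebra k R]
    (f : A →ₗ[k] k) (x : R ⊗[k] A) (hx : IsNilpotent x) : IsNilpotent (contract f x) := by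
  rw [nilpotent_iff_mem_prime]
  intro P hP
  let K := FractionRing (R ⧸ P)
  haveI : CharZero K := charZero_of_injective_algebraMap (algebraMap k K).injective
  haveI : IsReduced (K ⊗[k] A) := Comod33.Aug.isReduced_of_charZero (k := K)
  let q : R →ₐ[k] K := (IsScalarTower.toAlgHom k (R ⧸ P) K).comp (Ideal.Quotient.mkₐ k P)
  have h0 : Algebra.TensorProduct.map q (AlgHom.id k A) x = 0 := (hx.map _).eq_zero
  have h1 : q (contract f x) = contract f (Algebra.TensorProduct.map q (AlgHom.id k A) x) := by
    clear h0 hx
    induction x with
    | zero => simp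
    | add p r hp hr => simp only [map_add, hp, hr]
    | tmul p r => simp
  rw [h0, map_zero] at h1
  exact Ideal.Quotient.eq_zero_iff_mem.1 (IsFractionRing.injective (R ⧸ P) K (h1.trans (map_zero _).symm))

end Groth.Agent.GIT36.SSRed
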