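import Groth.Agent.GIT36.SSRed.Act
import Groth.Agent.GIT36.SSRed.Rey
import Groth.Agent.GIT36.AffQuot.Main
import Groth.Agent.GIT36.FinAction.Scheme
import Groth.Agent.GIT36.Proj.Restrict
import Groth.Agent.GIT36.FinAction.Glue
import Groth.Agent.GIT36.Proj.Functions
import Groth.Agent.GIT36.Sections.Extend

/-!
A weight section that is invariant up to nilpotents gives an invariant section with the same locus.
-/

set_option autoImplicit false
set_option backward.isDefEq.respectTransparency.types false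
set_option linter.style.haveILetI false
set_option linter.unusedSectionVars false
set_option maxHeartbeats 1000000

universe u

open CategoryTheory CategoryTheory.Limits MonoidalCategory CartesianMonoidalCategory MonObj GrpObj AlgebraicGeometry
  Opposite TopologicalSpace
open scoped TensorProduct
open Groth.Agent.GIT36.Sections Groth.Agent.FinSub96 Groth.Agent.GIT36.Proj Groth.Agent.GIT36.Mu

noncomputable section

namespace Groth.Agent.GIT36.SSRed

theorem basicOpen_eq_of_nilpotent_sub {Z : Scheme.{u}} {U : Z.Opens} {s t : Γ(Z, U)}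
    (h : IsNilpotent (s - t)) : Z.basicOpen s = Z.basicOpen t := by
  refine TopologicalSpace.Opens.ext (Set.ext fun x => ?_)
  by_cases hx : x ∈ U
  · simp only [SetLike.mem_coe, Scheme.mem_basicOpen _ _ x hx]
    have hn : IsNilpotent ((Z.presheaf.germ U x hx) (s - t)) := h.map (Z.presheaf.germ U x hx).hom
    rw [map_sub] at hn
    constructor <;> intro hu
    · have := hn.neg.isUnit_add_right_of_commute hu (Commute.all _ _)
      simpa using this
    · have := hn.isUnit_add_right_of_commute hu (Commute.all _ _)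
      simpa using this
  · exact ⟨fun h' => absurd (Z.basicOpen_le s h') hx, fun h' => absurd (Z.basicOpen_le t h') hx⟩

theorem rs_eq_zero_of_openImmersion {Z Z' : Scheme.{u}} (j : Z' ⟶ Z) [IsOpenImmersion j] {O : Z.Opens}
    (hO : (O : Set Z) = Set.range j.base) {d : Γ(Z, ⊤)} (hd : j.appTop d = 0) : rs (le_top : O ≤ ⊤) d = 0 := by
  obtain rfl : O = j ''ᵁ (⊤ : Z'.Opens) := by
    ext1
    rw [hO, Scheme.Hom.coe_image]
    simp
  have h := congrArg (j.appIso ⊤).inv hd
  rw [map_zero] at h
  rw [← h, ← CommRingCat.comp_apply, Scheme.Hom.appTop, Scheme.Hom.app_eq_appLE]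
  have : j.appLE ⊤ (j ⁻¹ᵁ ⊤) le_rfl ≫ (j.appIso ⊤).inv =
      Z.presheaf.map (homOfLE (le_top : j ''ᵁ (⊤ : Z'.Opens) ≤ ⊤)).op := by
    rw [Iso.comp_inv_eq, Scheme.Hom.appIso_hom']
    exact (Scheme.Hom.map_appLE _ _ _).symm
  exact (congr($(this) d)).symm

variable {k : Type u} [Field k] [CharZero k] {G X : Over (St k)} [GrpObj G]
  [LocallyOfFiniteType X.hom] [QuasiCompact X.hom] {a : AlgGrp.Action G X}

set_option synthInstance.maxHeartbeats 200000 in
/-- invariant sections from nilpotently invariant ones -/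
theorem exists_invSection_of_nilpotent (hG : Red.IsReductive G) (B : GLinSh.LinBun G a) {N : ℕ} (hN : 1 ≤ N)
    {F : Γ(B.V.left, ⊤)} (hF : GLinSh.HasWeight B.atlas.chart N F)
    (hnil : IsNilpotent (B.lift.act.left.appTop F - (snd G B.V).left.appTop F))
    {U : X.left.Opens} (hU : (U : Set X.left) = GLinSh.nonvanishing B.π F) (hUa : IsAffineOpen U) :
    ∃ (m : ℕ) (g : Γ(B.V.left, ⊤)), 1 ≤ m ∧ B.IsInvSection (m * N) g ∧
      GLinSh.nonvanishing B.π g = (U : Set X.left) := by
  classical
  haveI := hG.1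
  haveI : IsAffine G.left := isAffine_of_isAffineHom G.hom
  haveI := hG.2.1
  haveI := B.atlas.affine
  haveI := isAffineHom_prod B
  obtain ⟨A, _, _, ψ, hψ, hAft, hLR⟩ := AffQuot.exists_coord_linRed G hG
  haveI := hψ
  haveI := hAft
  haveI : CompactSpace X.left := QuasiCompact.compactSpace_of_compactSpace X.hom
  haveI := quasiCompact_total B
  haveI : CompactSpace B.V.left := QuasiCompact.compactSpace_of_compactSpace B.V.hom
  haveI : IsLocallyNoetherian X.left := LocallyOfFiniteType.isLocallyNoetherian X.hom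
  haveI := quasiSeparated_total B
  haveI : QuasiSeparatedSpace B.V.left := quasiSeparatedSpace_of_quasiSeparated B.V.hom
  haveI : CompactSpace (G ⊗ B.V).left := by
    haveI : QuasiCompact (G ⊗ B.V).hom := by
      show QuasiCompact (pullback.fst G.hom B.V.hom ≫ G.hom)
      infer_instance
    exact QuasiCompact.compactSpace_of_compactSpace (G ⊗ B.V).hom
  -- the invariant affine open of the total space
  let D : B.V.left.Opens := B.V.left.basicOpen F
  have hle : D ≤ B.π.left ⁻¹ᵁ U := fun v hv => by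
    show B.π.left v ∈ U
    rw [← SetLike.mem_coe, hU]
    exact ⟨v, hv, rfl⟩
  have hDa : IsAffineOpen D := by
    have h := (hUa.preimage B.π.left).basicOpen (rs le_top F)
    rwa [rs, Scheme.basicOpen_res, inf_eq_right.2 hle] at h
  have hDinv : B.lift.act.left ⁻¹ᵁ D = (snd G B.V).left ⁻¹ᵁ D := by
    rw [Scheme.Hom.preimage_basicOpen_top, Scheme.Hom.preimage_basicOpen_top]
    exact basicOpen_eq_of_nilpotent_sub hnil
  let aD := resAct B.lift D hDinv
  haveI : IsAffine (openObj D).left := hDa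
  haveI : IsAffine (openObj U).left := hUa
  let p : openObj D ⟶ openObj U := Over.homMk (B.π.left.resLE U D hle) (by
    show B.π.left.resLE U D hle ≫ U.ι ≫ X.hom = D.ι ≫ B.V.hom
    rw [← Category.assoc, Scheme.Hom.resLE_comp_ι, Category.assoc, Over.w B.π])
  have hpι : p ≫ openIncl U = openIncl D ≫ B.π := Over.OverMorphism.ext (Scheme.Hom.resLE_comp_ι B.π.left hle)
  -- the defect, in coordinates
  obtain ⟨u, hun, hu⟩ := exists_defect B hN hF hnil hU
  let RU := Γ((openObj U).left, ⊤)
  let RD := Γ((openObj D).left, ⊤)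
  let mU : VecGrp.pt k (RU ⊗[k] A) ⟶ G ⊗ X := FinAction.pairMap (X := openObj U) ψ ≫ (G ◁ openIncl U)
  let mD : VecGrp.pt k (RD ⊗[k] A) ⟶ G ⊗ B.V := FinAction.pairMap (X := openObj D) ψ ≫ (G ◁ openIncl D)
  have hmU : (⊤ : (VecGrp.pt k (RU ⊗[k] A)).left.Opens) ≤ mU.left ⁻¹ᵁ ((snd G X).left ⁻¹ᵁ U) := fun q _ => by
    show (mU ≫ snd G X).left q ∈ U
    rw [show mU ≫ snd G X = (FinAction.pairMap ψ ≫ snd G (openObj U)) ≫ openIncl U by
      rw [Category.assoc, Category.assoc, whiskerLeft_snd]]
    exact ((FinAction.pairMap ψ ≫ snd G (openObj U)).left q).2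
  let σD := Scheme.ΓSpecIso (CommRingCat.of (RD ⊗[k] A))
  let σU := Scheme.ΓSpecIso (CommRingCat.of (RU ⊗[k] A))
  let uA : RU ⊗[k] A := σU.hom (mU.left.appLE _ ⊤ hmU u)
  have huA : IsNilpotent (uA - 1) := by
    have h := (hun.map (mU.left.appLE _ ⊤ hmU).hom).map σU.hom.hom
    rw [map_sub, map_one, map_sub, map_one] at h
    exact h
  let f : RD := (openIncl D).left.appTop F
  let φ := Algebra.TensorProduct.map (secMap p) (AlgHom.id k A)
  have hmap : mD ≫ (G ◁ B.π) = VecGrp.ptMap φ ≫ mU := by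
    simp only [mD, mU, Category.assoc, ← whiskerLeft_comp, ← hpι]
    rw [whiskerLeft_comp, ← Category.assoc, ← Category.assoc]
    refine congrArg (· ≫ _) ?_
    simp only [FinAction.pairMap, lift_whiskerLeft, comp_lift, GrpObj.comp_inv]
    rw [GMod80.e_natural, AffQuot.xe_natural, AffQuot.xe_comp]
    refine congrArg₂ (fun x y => lift x y) ?_ ?_
    · congr 2
      exact congrArg WithConv.toConv (AlgHom.ext fun x => by simp [φ])
    · exact congrArg AffQuot.xe (AlgHom.ext fun x => by simp [φ])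
  have hcoact : AffQuot.coact ψ aD f = φ uA * (f ⊗ₜ[k] (1 : A)) := by
    have h1 : mD ≫ B.lift.act = AffQuot.xe (AffQuot.coact ψ aD) ≫ openIncl D := by
      rw [Category.assoc, ← resAct_comp B.lift D hDinv, AffQuot.xe_coact, AffQuot.act']
      rfl
    have h2 : mD ≫ snd G B.V = AffQuot.xe (Algebra.TensorProduct.includeLeft : RD →ₐ[k] RD ⊗[k] A) ≫ openIncl D := by
      rw [Category.assoc, whiskerLeft_snd, ← Category.assoc, FinAction.pairMap, lift_snd]
    have hc : ∀ g : RD →ₐ[k] RD ⊗[k] A, (AffQuot.xe g ≫ openIncl D).left.appTop F = σD.inv (g f) := by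
      intro g
      rw [Over.comp_left, Scheme.Hom.comp_appTop, CommRingCat.comp_apply]
      exact AffQuot.appTop_xe g f
    let E := (snd G X).left ⁻¹ᵁ U
    have hE : (⊤ : (VecGrp.pt k (RD ⊗[k] A)).left.Opens) ≤ mD.left ⁻¹ᵁ ((G ◁ B.π).left ⁻¹ᵁ E) := fun q _ => by
      show (mD ≫ (G ◁ B.π)).left q ∈ E
      rw [hmap]
      exact hmU (x := (VecGrp.ptMap φ).left q) trivial
    have hu' := congrArg (mD.left.appLE _ ⊤ hE) (show (G ◁ B.π).left.app E u * rs le_top ((snd G B.V).left.appTop F) =
      rs le_top (B.lift.act.left.appTop F) from hu)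
    have hrs : ∀ s : Γ((G ⊗ B.V).left, ⊤), mD.left.appLE _ ⊤ hE (rs le_top s) = mD.left.appTop s := fun s => by
      rw [rs, ← CommRingCat.comp_apply, Scheme.Hom.map_appLE, Scheme.Hom.appTop, Scheme.Hom.app_eq_appLE]
      rfl
    rw [map_mul, hrs, hrs, ← CommRingCat.comp_apply, ← CommRingCat.comp_apply, ← CommRingCat.comp_apply,
      ← Scheme.Hom.comp_appTop, ← Scheme.Hom.comp_appTop, ← Over.comp_left, ← Over.comp_left, h1, h2, hc, hc,
      Scheme.Hom.app_eq_appLE, Scheme.Hom.appLE_comp_appLE] at hu'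
    have h3 : (mD.left ≫ (G ◁ B.π).left).appLE E ⊤ hE u = σD.inv (φ uA) := by
      rw [show (mD.left ≫ (G ◁ B.π).left).appLE E ⊤ hE u = ((VecGrp.ptMap φ).left ≫ mU.left).appLE E ⊤
        (fun q _ => hmU (x := (VecGrp.ptMap φ).left q) trivial) u from congr($(LineBundle.appLE_congr_hom
          (show mD.left ≫ (G ◁ B.π).left = (VecGrp.ptMap φ).left ≫ mU.left by
            rw [← Over.comp_left, ← Over.comp_left, hmap]) _ _).hom u)]
      rw [← Scheme.Hom.appLE_comp_appLE _ _ E ⊤ ⊤ hmU le_rfl, CommRingCat.comp_apply]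
      have e : mU.left.appLE E ⊤ hmU u = σU.inv uA := by
        show _ = σU.inv (σU.hom _)
        rw [← CommRingCat.comp_apply σU.hom σU.inv, Iso.hom_inv_id]
        rfl
      rw [e, ← CommRingCat.comp_apply]
      have h4 := congr($(Scheme.ΓSpecIso_inv_naturality (CommRingCat.ofHom φ.toRingHom)) uA)
      refine Eq.trans ?_ h4.symm
      simp only [Scheme.Hom.appTop, Scheme.Hom.app_eq_appLE, VecGrp.ptMap_left]
      rfl
    rw [h3] at hu'
    have h5 := congrArg σD.hom hu'
    rw [map_mul] at h5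
    simpa [σD] using h5.symm
  -- the averaged section
  let r₀ : RU := contract (lam hLR) uA
  have hr₀ : IsNilpotent (r₀ - 1) := by
    have h := isNilpotent_contract (lam hLR) _ huA
    rwa [map_sub, show contract (lam hLR) (1 : RU ⊗[k] A) = 1 by
      rw [Algebra.TensorProduct.one_def, contract_tmul, lam_one, one_smul]] at h
  have havr : AffQuot.avr ψ hLR aD f = secMap p r₀ * f := by
    rw [AffQuot.avr, @rey_eq k _ A _ _ hLR RD _ _ (AffQuot.comod ψ aD)]
    show contract (lam hLR) (AffQuot.coact ψ aD f) = _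
    rw [hcoact]
    show contract (lam hLR) (φ uA * _) = secMap p (contract (lam hLR) uA) * f
    generalize uA = z
    induction z with
    | zero => simp
    | add x y hx hy => simp only [map_add, add_mul, hx, hy]
    | tmul x y => simp [φ, Algebra.smul_def]; ring
  have hinvD : AffQuot.Inv aD (secMap p r₀ * f) := havr ▸ AffQuot.inv_avr ψ hLR aD f
  -- back to the scheme
  let r : Γ(X.left, U) := U.topIso.hom r₀
  let ν : Γ(X.left, U) := r - 1
  obtain ⟨e, he⟩ : IsNilpotent ν := by
    have h := hr₀.map U.topIso.hom.hom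
    rw [map_sub, map_one] at h
    exact h
  have hlin : ∀ (U₁ U₂ : X.left.Opens) (y : Γ(B.V.left, B.π.left ⁻¹ᵁ U₁)) (y' : Γ(B.V.left, B.π.left ⁻¹ᵁ U₂)),
      y ∈ (atlasB B).chart U₁ → y' ∈ (atlasB B).chart U₂ → ∃ c : Γ(X.left, U₁ ⊓ U₂),
        rs (B.π.left.preimage_mono inf_le_right) y' =
          B.π.left.app (U₁ ⊓ U₂) c * rs (B.π.left.preimage_mono inf_le_left) y := fun U₁ U₂ y y' hy hy' => by
    obtain ⟨c, -, hc⟩ := B.atlas.linear U₁ U₂ y y' hy hy'
    exact ⟨c, hc⟩
  choose Mj gj hMj hgj hnvj heqj using fun j : ℕ =>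
    exists_wt_extension (A := atlasB B) hlin hF hU (ν ^ j) hle
  let M : ℕ := (∑ j ∈ Finset.range e, Mj j) + 1
  have hMlt : ∀ j ∈ Finset.range e, Mj j + 1 ≤ M := fun j hj =>
    Nat.add_le_add_right (Finset.single_le_sum (fun i _ => Nat.zero_le (Mj i)) hj) 1
  let g' : Γ(B.V.left, ⊤) := ∑ j ∈ Finset.range e, (M.choose j : Γ(B.V.left, ⊤)) * (F ^ (M - Mj j - 1) * gj j)
  let g : Γ(B.V.left, ⊤) := F * g'
  have hgwt : (atlasB B).Wt (M * N) g := by
    have : g = ∑ j ∈ Finset.range e, B.π.left.appTop (M.choose j : Γ(X.left, ⊤)) * (F ^ (M - Mj j) * gj j) := by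
      simp only [g, g', Finset.mul_sum]
      refine Finset.sum_congr rfl fun j hj => ?_
      rw [map_natCast B.π.left.appTop.hom,
        show M - Mj j = M - Mj j - 1 + 1 from (Nat.sub_add_cancel (Nat.le_sub_of_add_le (by have := hMlt j hj; omega))).symm,
        pow_succ]
      simp only [Nat.add_sub_cancel]
      ring
    rw [this]
    refine Atlas.Wt.sum (A := atlasB B) _ _ fun j hj => ?_
    have h := (Atlas.Wt.base (atlasB B) (M.choose j : Γ(X.left, ⊤))).mul
      ((Atlas.Wt.pow (A := atlasB B) hF (M - Mj j)).mul (hgj j))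
    rwa [Nat.zero_add, ← Nat.add_mul, Nat.sub_add_cancel (Nat.le_of_succ_le (hMlt j hj))] at h
  let FD : Γ(B.V.left, D) := rs le_top F
  let rD : Γ(B.V.left, D) := rs hle (B.π.left.app U r)
  have hgD : rs (le_top : D ≤ ⊤) g = (rD * FD) ^ M := by
    have h1 : rs (le_top : D ≤ ⊤) g =
        ∑ j ∈ Finset.range e, (M.choose j : Γ(B.V.left, D)) * (FD ^ M * rs hle (B.π.left.app U (ν ^ j))) := by
      simp only [g, g', rs, map_mul, map_sum, map_pow, map_natCast, Finset.mul_sum]
      refine Finset.sum_congr rfl fun j hj => ?_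
      rw [show B.V.left.presheaf.map (homOfLE (le_top : D ≤ ⊤)).op (gj j) = _ from heqj j]
      have hM' : M = M - Mj j - 1 + 1 + Mj j := by have := hMlt j hj; omega
      conv_rhs => rw [hM', pow_add, pow_succ]
      simp only [FD, rs, map_pow, ← hM']
      ring
    rw [h1]
    have h2 : (rD * FD) ^ M = rs hle (B.π.left.app U (r ^ M)) * FD ^ M := by
      simp only [rD, rs, map_pow, mul_pow]
    have hr : r = ν + 1 := by simp [ν]
    have h3 : r ^ M = ∑ j ∈ Finset.range e, (M.choose j : Γ(X.left, U)) * ν ^ j := by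
      rw [hr, add_pow]
      simp only [one_pow, _root_.mul_one]
      rcases le_total (M + 1) e with hle' | hle'
      · rw [← Finset.sum_subset (Finset.range_mono hle') fun j _ hj => by
          rw [Nat.choose_eq_zero_of_lt (by simp only [Finset.mem_range] at hj; omega), Nat.cast_zero, zero_mul]]
        exact Finset.sum_congr rfl fun j _ => mul_comm _ _
      · rw [← Finset.sum_subset (Finset.range_mono hle') fun j _ hj => by
          rw [pow_eq_zero_of_le (by simp only [Finset.mem_range] at hj; omega) he, zero_mul]]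
        exact Finset.sum_congr rfl fun j _ => mul_comm _ _
    rw [h2, h3]
    simp only [rs, map_sum, Finset.sum_mul]
    refine Finset.sum_congr rfl fun j _ => ?_
    simp only [rs, map_mul, map_natCast]
    ring
  -- invariance near the locus
  have hdiff : ((G ◁ openIncl D).left.appTop (B.lift.act.left.appTop g - (snd G B.V).left.appTop g)) = 0 := by
    have hg1 : (openIncl D).left.appTop g = (secMap p r₀ * f) ^ M := by
      have e1 : ∀ s : Γ(B.V.left, ⊤), (openIncl D).left.appTop s = D.topIso.inv (rs le_top s) := fun s => by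
        rw [show D.topIso.inv = D.ι.appLE D ⊤ (by simp) from by simp [Scheme.Opens.topIso]; rfl, rs,
          ← CommRingCat.comp_apply, Scheme.Hom.map_appLE, Scheme.Hom.appTop, Scheme.Hom.app_eq_appLE]
        rfl
      have e2 : secMap p r₀ = D.topIso.inv rD := by
        rw [secMap_apply]
        show (B.π.left.resLE U D hle).appTop r₀ = _
        rw [show (B.π.left.resLE U D hle).appTop = _ from Scheme.Hom.resLE_app_top _ _]
        simp only [rD, r, rs, CommRingCat.comp_apply]
        congr 1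
      rw [e1, hgD, map_pow, map_mul, ← e2, ← e1]
    have hact : ∀ q : G ⊗ openObj D ⟶ openObj D, ∀ q' : G ⊗ B.V ⟶ B.V, q ≫ openIncl D = (G ◁ openIncl D) ≫ q' →
        (G ◁ openIncl D).left.appTop (q'.left.appTop g) = q.left.appTop ((secMap p r₀ * f) ^ M) := by
      intro q q' hq
      rw [← hg1, ← CommRingCat.comp_apply, ← CommRingCat.comp_apply, ← Scheme.Hom.comp_appTop,
        ← Scheme.Hom.comp_appTop, ← Over.comp_left, ← Over.comp_left, hq]
    rw [map_sub, hact aD.act B.lift.act (resAct_comp B.lift D hDinv),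
      hact (snd G (openObj D)) (snd G B.V) (whiskerLeft_snd _ _).symm, map_pow, map_pow,
      show aD.act.left.appTop (secMap p r₀ * f) = _ from hinvD, sub_self]
  let pF := (snd G B.V).left.appTop F
  let aF := B.lift.act.left.appTop F
  let d := B.lift.act.left.appTop g - (snd G B.V).left.appTop g
  haveI : IsOpenImmersion (openIncl D).left := inferInstanceAs (IsOpenImmersion D.ι)
  haveI : IsOpenImmersion (G ◁ openIncl D).left :=
    MorphismProperty.of_isPullback (P := @IsOpenImmersion) (Quot.isPullback_whiskerLeft_left G (openIncl D)).flip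
      inferInstance
  have hO := rs_eq_zero_of_openImmersion (G ◁ openIncl D).left
    (O := (snd G B.V).left ⁻¹ᵁ D) (FinAction.range_whiskerLeft_openIncl D).symm hdiff
  have hbp : (G ⊗ B.V).left.basicOpen pF = (snd G B.V).left ⁻¹ᵁ D := (Scheme.Hom.preimage_basicOpen_top _ _).symm
  have hba : (G ⊗ B.V).left.basicOpen aF = (snd G B.V).left ⁻¹ᵁ D := by
    rw [← hbp]; exact basicOpen_eq_of_nilpotent_sub hnil
  have hk : ∀ s : Γ((G ⊗ B.V).left, ⊤), (G ⊗ B.V).left.basicOpen s = (snd G B.V).left ⁻¹ᵁ D →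
      ∃ n, s ^ n * d = 0 := fun s hs => by
    refine exists_pow_mul_eq_zero_of_res_basicOpen_eq_zero_of_isCompact (G ⊗ B.V).left (U := ⊤) isCompact_univ d s ?_
    show rs (le_top : (G ⊗ B.V).left.basicOpen s ≤ ⊤) d = 0
    rw [← rs_rs (le_top : (snd G B.V).left ⁻¹ᵁ D ≤ ⊤) hs.le, hO, rs_zero]
  obtain ⟨n₁, hn₁⟩ := hk aF hba
  obtain ⟨n₂, hn₂⟩ := hk pF hbp
  let J := n₁ + n₂ + 1
  have hinvJ : B.lift.act.left.appTop (g ^ J) = (snd G B.V).left.appTop (g ^ J) := by
    rw [map_pow, map_pow, ← sub_eq_zero, ← geom_sum₂_mul (B.lift.act.left.appTop g) ((snd G B.V).left.appTop g) J]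
    rw [Finset.sum_mul]
    refine Finset.sum_eq_zero fun i hi => ?_
    simp only [g, d, aF, pF, map_mul, mul_pow] at hn₁ hn₂ ⊢
    rcases le_total n₁ i with h | h
    · obtain ⟨c, rfl⟩ := Nat.exists_eq_add_of_le h
      rw [pow_add]
      linear_combination (B.lift.act.left.appTop F ^ c * B.lift.act.left.appTop g' ^ (n₁ + c) *
        ((snd G B.V).left.appTop F ^ (J - 1 - (n₁ + c)) * (snd G B.V).left.appTop g' ^ (J - 1 - (n₁ + c)))) * hn₁
    · have hle' : n₂ ≤ J - 1 - i := by simp only [J]; omega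
      obtain ⟨c, hc⟩ := Nat.exists_eq_add_of_le hle'
      rw [hc, pow_add]
      linear_combination (B.lift.act.left.appTop F ^ i * B.lift.act.left.appTop g' ^ i *
        ((snd G B.V).left.appTop F ^ c * (snd G B.V).left.appTop g' ^ (n₂ + c))) * hn₂
  refine ⟨J * M, g ^ J, Nat.mul_pos (Nat.succ_pos _) (Nat.succ_pos _), ⟨?_, hinvJ⟩, ?_⟩
  · rw [Nat.mul_assoc]
    exact Atlas.Wt.pow (A := atlasB B) hgwt J
  · show nv B.π.left (g ^ J) = _
    rw [nv_pow _ (Nat.succ_pos _), hU]
    show B.π.left.base '' _ = B.π.left.base '' _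
    refine congrArg _ (congrArg (fun O : B.V.left.Opens => (O : Set B.V.left)) ?_)
    refine le_antisymm ((B.V.left.basicOpen_mul F g').le.trans inf_le_left) ?_
    have hunit : IsUnit (rs (le_top : D ≤ ⊤) g) := by
      rw [hgD]
      refine (IsUnit.mul ?_ (RingedSpace.isUnit_res_basicOpen B.V.left.toRingedSpace F)).pow M
      refine IsUnit.map (B.V.left.presheaf.map (homOfLE hle).op).hom (IsUnit.map (B.π.left.app U).hom ?_)
      have : r = 1 + ν := by simp [ν]
      rw [this]
      exact IsNilpotent.isUnit_one_add ⟨e, he⟩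
    have h := B.V.left.basicOpen_of_isUnit hunit
    rw [rs, Scheme.basicOpen_res] at h
    exact fun v hv => (h.ge hv).2

end Groth.Agent.GIT36.SSRed
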