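import Groth.Agent.GIT36.Sections.Extend
import Groth.Agent.GIT36.Proj.WeightStable
import Groth.Agent.VarGal.Thickening
import Mathlib.AlgebraicGeometry.Morphisms.QuasiSeparated

/-!
Powers of functions lift along nilpotent thickenings, and homogeneous components.
-/

set_option autoImplicit false
set_option backward.isDefEq.respectTransparency.types false
set_option linter.style.haveILetI false
set_option linter.unusedSectionVars false

universe u

open CategoryTheory CategoryTheory.Limits AlgebraicGeometry Opposite TopologicalSpace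
open Groth.Agent.GIT36.Sections

noncomputable section

namespace Groth.Agent.GIT36.SSRed

section Local

variable {Z : Scheme.{u}} {O : Z.Opens} (hO : IsAffineOpen O) (f : Γ(Z, O)) (t : Γ(Z, Z.basicOpen f))

include hO in
/-- powers of a function nilpotently close to `f` on `D(f)` extend by zero -/
theorem exists_pow_extension (ht : IsNilpotent (t - rs (Z.basicOpen_le f) f)) :
    ∃ p : ℕ, ∀ m, p ≤ m → ∃ e : Γ(Z, O), rs (Z.basicOpen_le f) e = t ^ m ∧ Z.basicOpen e ≤ Z.basicOpen f := by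
  classical
  obtain ⟨N, hN⟩ := ht
  choose r a ha using fun j : ℕ => exists_eq_pow_mul_of_isAffineOpen Z O hO f ((t - rs (Z.basicOpen_le f) f) ^ j)
  refine ⟨(∑ j ∈ Finset.range N, (r j + j)) + N + 1, fun m hm => ?_⟩
  have hlt : ∀ j ∈ Finset.range N, r j + j + 1 ≤ m := fun j hj => by
    have := Finset.single_le_sum (f := fun i => r i + i) (fun i _ => Nat.zero_le _) hj
    omega
  let e' : Γ(Z, O) := ∑ j ∈ Finset.range N, (m.choose j : Γ(Z, O)) * (f ^ (m - j - r j - 1) * a j)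
  refine ⟨f * e', ?_, (Z.basicOpen_mul f e').le.trans inf_le_left⟩
  let fD := rs (Z.basicOpen_le f) f
  let δ := t - fD
  have ha' : ∀ j, rs (Z.basicOpen_le f) (a j) = fD ^ r j * δ ^ j := fun j => ha j
  have h1 : t ^ m = ∑ j ∈ Finset.range N, (m.choose j : Γ(Z, Z.basicOpen f)) * (fD ^ (m - j) * δ ^ j) := by
    rw [show t = δ + fD by simp [δ], add_pow,
      ← Finset.sum_subset (s₁ := Finset.range N) (Finset.range_mono (by omega)) fun j _ hj => by
        rw [pow_eq_zero_of_le (by simp only [Finset.mem_range] at hj; omega) hN, zero_mul, zero_mul]]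
    exact Finset.sum_congr rfl fun j _ => by ring
  rw [h1]
  simp only [e', rs, map_mul, map_sum, map_pow, map_natCast, Finset.mul_sum]
  refine Finset.sum_congr rfl fun j hj => ?_
  rw [show Z.presheaf.map (homOfLE (Z.basicOpen_le f)).op (a j) = fD ^ r j * δ ^ j from ha' j]
  have hm' : m - j = m - j - r j - 1 + r j + 1 := by have := hlt j hj; omega
  conv_rhs => rw [hm', pow_add, pow_add, pow_one]
  simp only [fD, rs]
  ring

end Local

section Pow

variable {Z Z' : Scheme.{u}} (q : Z' ⟶ Z) [IsClosedImmersion q] [Surjective q]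

/-- a function with affine non-vanishing locus on a reduced thickening: a power lifts -/
theorem exists_lift_pow [AlgebraicGeometry.IsReduced Z'] [CompactSpace Z] [QuasiSeparatedSpace Z] (f : Γ(Z', ⊤))
    {D : Z.Opens} (hD : q ⁻¹ᵁ D = Z'.basicOpen f) (hDa : IsAffineOpen D) :
    ∃ (m : ℕ) (H : Γ(Z, ⊤)), 1 ≤ m ∧ q.appTop H = f ^ m := by
  classical
  have hsurj : ∀ O : Z.Opens, IsAffineOpen O → Function.Surjective (q.app O) := fun O hO =>
    q.app_surjective O hO
  obtain ⟨s, hs⟩ := hsurj D hDa (rs le_top f)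
  choose O hOa hxO _ using fun z : Z => exists_affine_le (x := z) (O := (⊤ : Z.Opens)) trivial
  choose c hc using fun z => hsurj (O z) (hOa z) (rs le_top f)
  have hbc : ∀ z, Z.basicOpen (c z) = O z ⊓ D := fun z => by
    refine Groth.Agent.VarGal.opens_ext q ?_
    rw [Scheme.preimage_basicOpen, hc, rs, Scheme.basicOpen_res, q.preimage_inf, hD]
  have hnil : ∀ z, IsNilpotent (rs ((hbc z).le.trans inf_le_right) s - rs (Z.basicOpen_le (c z)) (c z)) := fun z => by
    refine Groth.Agent.VarGal.isNilpotent_of_app_eq_zero q ((hOa z).basicOpen (c z)).isCompact ?_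
    have hn : ∀ {U W : Z.Opens} (h : W ≤ U) (x : Γ(Z, U)), q.app W (rs h x) = rs (q.preimage_mono h) (q.app U x) :=
      fun h x => Groth.Agent.VarGal.app_res q h x
    rw [map_sub, hn, hn, hs, hc, rs_rs, rs_rs, sub_self]
  choose p hp using fun z => exists_pow_extension (hOa z) (c z) _ (hnil z)
  obtain ⟨S, hS⟩ := isCompact_univ.elim_finite_subcover (fun z => (O z : Set Z)) (fun z => (O z).2)
    fun z _ => Set.mem_iUnion.2 ⟨z, hxO z⟩
  let m := S.sup p + 1
  have hex : ∀ z : S, ∃ e : Γ(Z, O z.1), rs (Z.basicOpen_le (c z.1)) e = rs ((hbc z.1).le.trans inf_le_right) s ^ m ∧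
      Z.basicOpen e ≤ Z.basicOpen (c z.1) := fun z => hp z.1 m ((Finset.le_sup z.2).trans (Nat.le_succ _))
  choose e he hble using hex
  have hsD : Z.basicOpen s = D := Groth.Agent.VarGal.opens_ext q (by
    rw [Scheme.preimage_basicOpen, hs, rs, Scheme.basicOpen_res, hD, inf_idem])
  have hbe : ∀ z : S, Z.basicOpen (e z) = O z.1 ⊓ D := fun z => by
    refine le_antisymm ((hble z).trans (hbc z.1).le) (le_of_eq_of_le (hbc z.1).symm ?_)
    have hu : IsUnit (rs (Z.basicOpen_le (c z.1)) (e z)) := by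
      rw [he]
      exact (isUnit_rs_of_le_basicOpen _ ((hbc z.1).le.trans (inf_le_right.trans hsD.ge))).pow m
    have h := Z.basicOpen_of_isUnit hu
    rw [rs, Scheme.basicOpen_res] at h
    exact fun v hv => (h.ge hv).2
  have hpair : ∀ i j : S, ∃ n, ∀ J, n ≤ J →
      rs (inf_le_left : O i.1 ⊓ O j.1 ≤ O i.1) (e i ^ J) = rs (inf_le_right : O i.1 ⊓ O j.1 ≤ O j.1) (e j ^ J) := by
    intro i j
    let W := O i.1 ⊓ O j.1
    let x := rs (inf_le_left : W ≤ O i.1) (e i)
    let y := rs (inf_le_right : W ≤ O j.1) (e j)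
    have hW : IsCompact (W : Set Z) :=
      QuasiSeparatedSpace.inter_isCompact _ _ (O i.1).2 (hOa i.1).isCompact (O j.1).2 (hOa j.1).isCompact
    have hbx : Z.basicOpen x = W ⊓ D := by
      simp only [x, rs, Scheme.basicOpen_res, hbe]; exact le_antisymm (le_inf inf_le_left (inf_le_right.trans inf_le_right)) (le_inf inf_le_left (le_inf (inf_le_left.trans inf_le_left) inf_le_right))
    have hby : Z.basicOpen y = W ⊓ D := by
      simp only [y, rs, Scheme.basicOpen_res, hbe]; exact le_antisymm (le_inf inf_le_left (inf_le_right.trans inf_le_right)) (le_inf inf_le_left (le_inf (inf_le_left.trans inf_le_right) inf_le_right))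
    have hxy : ∀ {V : Z.Opens} (hV : V ≤ W), V ≤ D → rs hV x = rs hV y := fun {V} hV hVD => by
      have hi : V ≤ Z.basicOpen (c i.1) := (le_inf (hV.trans inf_le_left) hVD).trans (hbc i.1).ge
      have hj : V ≤ Z.basicOpen (c j.1) := (le_inf (hV.trans inf_le_right) hVD).trans (hbc j.1).ge
      have e1 := congrArg (rs hi) (he i)
      have e2 := congrArg (rs hj) (he j)
      rw [rs_rs, rs_pow, rs_rs] at e1 e2
      simp only [x, y, rs_rs]
      exact e1.trans e2.symm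
    obtain ⟨n₁, hn₁⟩ := exists_pow_mul_eq_zero_of_res_basicOpen_eq_zero_of_isCompact Z hW (x - y) x (by
      show rs (Z.basicOpen_le x) (x - y) = 0
      rw [rs, map_sub, sub_eq_zero]
      exact hxy (Z.basicOpen_le x) (hbx.le.trans inf_le_right))
    obtain ⟨n₂, hn₂⟩ := exists_pow_mul_eq_zero_of_res_basicOpen_eq_zero_of_isCompact Z hW (x - y) y (by
      show rs (Z.basicOpen_le y) (x - y) = 0
      rw [rs, map_sub, sub_eq_zero]
      exact hxy (Z.basicOpen_le y) (hby.le.trans inf_le_right))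
    refine ⟨n₁ + n₂ + 1, fun J hJ => ?_⟩
    rw [rs_pow, rs_pow, ← sub_eq_zero, ← geom_sum₂_mul, Finset.sum_mul]
    refine Finset.sum_eq_zero fun l hl => ?_
    simp only [Finset.mem_range] at hl
    rcases le_total n₁ l with h | h
    · obtain ⟨d, rfl⟩ := Nat.exists_eq_add_of_le h
      linear_combination (x ^ d * y ^ (J - 1 - (n₁ + d))) * hn₁
    · obtain ⟨d, hd⟩ := Nat.exists_eq_add_of_le (show n₂ ≤ J - 1 - l by omega)
      rw [hd]
      linear_combination (x ^ l * y ^ d) * hn₂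
  choose n hn using hpair
  let J := (Finset.univ.sup fun i : S × S => n i.1 i.2) + 1
  obtain ⟨H, hH⟩ := glue (fun z : S => O z.1) (fun _ => le_top) (fun x _ => by
      obtain ⟨z, hz, hxz⟩ := Set.mem_iUnion₂.1 (hS (Set.mem_univ x))
      exact Opens.mem_iSup.2 ⟨⟨z, hz⟩, hxz⟩) (fun z => e z ^ J) fun i j =>
    hn i j J ((Finset.le_sup (f := fun i : S × S => n i.1 i.2) (Finset.mem_univ (i, j))).trans (Nat.le_succ _))
  refine ⟨m * J, H, Nat.mul_pos (Nat.succ_pos _) (Nat.succ_pos _), eq_of_locally _ _ fun x _ => ?_⟩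
  obtain ⟨z, hz, hxz⟩ := Set.mem_iUnion₂.1 (hS (Set.mem_univ (q x)))
  refine ⟨q ⁻¹ᵁ O z, le_top, hxz, ?_⟩
  have h1 : rs (le_top : q ⁻¹ᵁ O z ≤ ⊤) (q.appTop H) = q.app (O z) (e ⟨z, hz⟩) ^ J := by
    rw [← map_pow]
    refine ((Groth.Agent.VarGal.app_res q (le_top : O z ≤ ⊤) H).symm.trans ?_)
    exact congrArg _ (hH ⟨z, hz⟩)
  rw [h1, rs_pow, pow_mul]
  congr 1
  let qe := q.app (O z) (e ⟨z, hz⟩)
  let fz := rs (le_top : q ⁻¹ᵁ O z ≤ ⊤) f
  show qe = fz ^ m
  rw [← sub_eq_zero, ← basicOpen_eq_bot_iff]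
  refine eq_bot_iff.2 fun w hw => ?_
  have hwO : w ∈ q ⁻¹ᵁ O z := Z'.basicOpen_le _ hw
  rw [Scheme.mem_basicOpen _ _ w hwO, map_sub] at hw
  have hmem : ∀ (x : Γ(Z', q ⁻¹ᵁ O z)), IsUnit (Z'.presheaf.germ _ w hwO x) ↔ w ∈ Z'.basicOpen x := fun x =>
    (Scheme.mem_basicOpen _ _ w hwO).symm
  have hbq : Z'.basicOpen qe = q ⁻¹ᵁ O z ⊓ q ⁻¹ᵁ D := by
    rw [← Scheme.preimage_basicOpen, hbe, q.preimage_inf]
  have hbf : Z'.basicOpen (fz ^ m) = q ⁻¹ᵁ O z ⊓ q ⁻¹ᵁ D := by
    rw [Scheme.basicOpen_pow _ _ (Nat.succ_pos _)]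
    simp only [fz, rs, Scheme.basicOpen_res, hD]
  by_cases hwD : w ∈ q ⁻¹ᵁ D
  · have hwc : w ∈ q ⁻¹ᵁ Z.basicOpen (c z) := by rw [hbc, q.preimage_inf]; exact ⟨hwO, hwD⟩
    have heq : rs (q.preimage_mono (Z.basicOpen_le (c z))) qe = rs (q.preimage_mono (Z.basicOpen_le (c z))) (fz ^ m) := by
      have e1 := congrArg (q.app (Z.basicOpen (c z))) (he ⟨z, hz⟩)
      rw [map_pow] at e1
      refine ((Groth.Agent.VarGal.app_res q (Z.basicOpen_le (c z)) (e ⟨z, hz⟩)).symm.trans e1).trans ?_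
      rw [rs_pow, show q.app (Z.basicOpen (c z)) (rs _ s) = _ from Groth.Agent.VarGal.app_res q _ s, hs]
      simp only [fz, VarGal.res]
      rw [show (Z'.presheaf.map (homOfLE _).op).hom (rs le_top f) = rs _ (rs le_top f) from rfl, rs_rs, rs_rs]
    have h0 := congrArg (Z'.presheaf.germ _ w hwc) heq
    simp only [rs, TopCat.Presheaf.germ_res_apply] at h0
    rw [h0, sub_self] at hw
    exact absurd hw not_isUnit_zero
  · refine absurd hw (IsLocalRing.mem_maximalIdeal _ |>.1 (Ideal.sub_mem _ ?_ ?_))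
    · rw [IsLocalRing.mem_maximalIdeal, mem_nonunits_iff, hmem, hbq]
      exact fun h => hwD h.2
    · rw [IsLocalRing.mem_maximalIdeal, mem_nonunits_iff, hmem, hbf]
      exact fun h => hwD h.2

end Pow

section Component

variable {V X : Scheme.{u}} {π : V ⟶ X} [IsAffineHom π] (A : Atlas π)

theorem evalAt_apply {U W : X.Opens} (y : Γ(V, π ⁻¹ᵁ U)) (hW : W ≤ U) (p : Polynomial Γ(X, W)) :
    LineBundle.evalAt π y hW p = p.eval₂ (π.app W).hom (rs (π.preimage_mono hW) y) := rfl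

/-- the homogeneous component of a function -/
theorem exists_component
    (hlin : ∀ (U U' : X.Opens) (y : Γ(V, π ⁻¹ᵁ U)) (y' : Γ(V, π ⁻¹ᵁ U')), y ∈ A.chart U → y' ∈ A.chart U' →
      ∃ c : Γ(X, U ⊓ U'), rs (π.preimage_mono inf_le_right) y' =
        π.app (U ⊓ U') c * rs (π.preimage_mono inf_le_left) y)
    (n : ℕ) (H : Γ(V, ⊤)) :
    ∃ F : Γ(V, ⊤), A.Wt n F ∧ ∀ (U W : X.Opens) (y : Γ(V, π ⁻¹ᵁ U)), y ∈ A.chart U → IsAffineOpen W →
      ∀ (hW : W ≤ U) (p : Polynomial Γ(X, W)), LineBundle.evalAt π y hW p = rs le_top H →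
        rs le_top F = π.app W (p.coeff n) * rs (π.preimage_mono hW) y ^ n := by
  classical
  have hres : ∀ {U W W' : X.Opens} (y : Γ(V, π ⁻¹ᵁ U)) (hW : W ≤ U) (h : W' ≤ W) (p : Polynomial Γ(X, W)),
      LineBundle.evalAt π y hW p = rs le_top H →
      LineBundle.evalAt π y (h.trans hW) (p.map (X.presheaf.map (homOfLE h).op).hom) = rs le_top H ∧
        rs (π.preimage_mono h) (π.app W (p.coeff n) * rs (π.preimage_mono hW) y ^ n) =
          π.app W' ((p.map (X.presheaf.map (homOfLE h).op).hom).coeff n) * rs (π.preimage_mono (h.trans hW)) y ^ n := by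
    intro U W W' y hW h p hp
    refine ⟨?_, ?_⟩
    · rw [← LineBundle.evalAt_res π y hW h p, hp]
      exact rs_rs _ _ H
    · rw [rs_mul, rs_pow, rs_rs, app_rs π h, Polynomial.coeff_map]
  have hsame : ∀ {U U' W : X.Opens} (y : Γ(V, π ⁻¹ᵁ U)) (y' : Γ(V, π ⁻¹ᵁ U')), y ∈ A.chart U → y' ∈ A.chart U' →
      IsAffineOpen W → ∀ (hW : W ≤ U) (hW' : W ≤ U') (p p' : Polynomial Γ(X, W)),
      LineBundle.evalAt π y hW p = rs le_top H → LineBundle.evalAt π y' hW' p' = rs le_top H →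
      π.app W (p.coeff n) * rs (π.preimage_mono hW) y ^ n = π.app W (p'.coeff n) * rs (π.preimage_mono hW') y' ^ n := by
    intro U U' W y y' hy hy' hWa hW hW' p p' hp hp'
    obtain ⟨c, hc⟩ := hlin U U' y y' hy hy'
    let d : Γ(X, W) := rs (le_inf hW hW') c
    have hy'W : rs (π.preimage_mono hW') y' = π.app W d * rs (π.preimage_mono hW) y := by
      have h1 := congrArg (rs (π.preimage_mono (le_inf hW hW' : W ≤ U ⊓ U'))) hc
      rw [rs_rs, rs_mul, app_rs π (le_inf hW hW' : W ≤ U ⊓ U'), rs_rs] at h1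
      exact h1
    have hpp : p = p'.comp (Polynomial.C d * Polynomial.X) := by
      refine (A.coord U y hy W hWa hW).1 (hp.trans ?_)
      rw [← hp', evalAt_apply, evalAt_apply, Polynomial.eval₂_comp, Polynomial.eval₂_mul, Polynomial.eval₂_C,
        Polynomial.eval₂_X, hy'W]
    rw [hpp, Polynomial.comp_C_mul_X_coeff, hy'W, map_mul, map_pow, mul_pow]
    ring
  choose U₀ hxU hne using fun x : X => A.cover x
  choose y₀ hy₀ using hne
  choose W₀ hWa hxW hWU using fun x : X => exists_affine_le (hxU x)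
  choose p₀ hp₀ using fun x => (A.coord (U₀ x) (y₀ x) (hy₀ x) (W₀ x) (hWa x) (hWU x)).2 (rs le_top H)
  let t : ∀ x, Γ(V, π ⁻¹ᵁ W₀ x) := fun x =>
    π.app (W₀ x) ((p₀ x).coeff n) * rs (π.preimage_mono (hWU x)) (y₀ x) ^ n
  have hkey : ∀ (x : X) {U W : X.Opens} (y : Γ(V, π ⁻¹ᵁ U)), y ∈ A.chart U → IsAffineOpen W → ∀ (hW : W ≤ U)
      (p : Polynomial Γ(X, W)), LineBundle.evalAt π y hW p = rs le_top H →
      rs (π.preimage_mono (inf_le_left : W₀ x ⊓ W ≤ W₀ x)) (t x) =
        rs (π.preimage_mono (inf_le_right : W₀ x ⊓ W ≤ W)) (π.app W (p.coeff n) * rs (π.preimage_mono hW) y ^ n) := by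
    intro x U W y hy hWaff hW p hp
    refine eq_of_locally _ _ fun v hv => ?_
    obtain ⟨W'', hW''a, hvW, hW''⟩ := exists_affine_le (x := π v) (O := W₀ x ⊓ W) hv
    refine ⟨π ⁻¹ᵁ W'', π.preimage_mono hW'', hvW, ?_⟩
    rw [rs_rs, rs_rs]
    obtain ⟨hq₁, hr₁⟩ := hres (y₀ x) (hWU x) (hW''.trans inf_le_left) (p₀ x) (hp₀ x)
    obtain ⟨hq₂, hr₂⟩ := hres y hW (hW''.trans inf_le_right) p hp
    exact hr₁.trans ((hsame (y₀ x) y (hy₀ x) hy hW''a _ _ _ _ hq₁ hq₂).trans hr₂.symm)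
  obtain ⟨F, hF⟩ := glue (fun x => π ⁻¹ᵁ W₀ x) (fun _ => le_top)
    (fun v _ => Opens.mem_iSup.2 ⟨π v, hxW (π v)⟩) t fun i j =>
      hkey i (y₀ j) (hy₀ j) (hWa j) (hWU j) (p₀ j) (hp₀ j)
  have hprop : ∀ (U W : X.Opens) (y : Γ(V, π ⁻¹ᵁ U)), y ∈ A.chart U → IsAffineOpen W →
      ∀ (hW : W ≤ U) (p : Polynomial Γ(X, W)), LineBundle.evalAt π y hW p = rs le_top H →
        rs le_top F = π.app W (p.coeff n) * rs (π.preimage_mono hW) y ^ n := by
    intro U W y hy hWaff hW p hp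
    refine eq_of_locally _ _ fun v hv => ?_
    refine ⟨π ⁻¹ᵁ (W₀ (π v) ⊓ W), π.preimage_mono inf_le_right, ⟨hxW _, hv⟩, ?_⟩
    rw [rs_rs, ← hkey (π v) y hy hWaff hW p hp, ← hF (π v), rs_rs]
  refine ⟨F, fun U y hy => ?_, hprop⟩
  refine Proj.exists_coef_of_locally (A.coord U y hy) n F fun x hx => ?_
  obtain ⟨W, hWaff, hxW', hW⟩ := exists_affine_le hx
  obtain ⟨p, hp⟩ := (A.coord U y hy W hWaff hW).2 (rs le_top H)
  exact ⟨W, hW, hxW', p.coeff n, hprop U W y hy hWaff hW p hp⟩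

end Component

end Groth.Agent.GIT36.SSRed
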