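import Groth.Agent.GIT36.SSRed.LiftEq
import Groth.Agent.GIT36.SSRed.Core
import Groth.Agent.GIT36.SSRed.Lift

/-!
Invariant sections for two linearisations of the same bundle.
-/

set_option autoImplicit false
set_option backward.isDefEq.respectTransparency.types false
set_option linter.style.haveILetI false
set_option linter.unusedSectionVars false
set_option maxHeartbeats 600000

universe u

open CategoryTheory CategoryTheory.Limits MonoidalCategory CartesianMonoidalCategory MonObj GrpObj AlgebraicGeometry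
  Opposite TopologicalSpace
open Groth.Agent.GIT36.Sections Groth.Agent.GIT36.Proj Groth.Agent.GIT36.Mu

noncomputable section

namespace Groth.Agent.GIT36.SSRed

variable {k : Type u} [Field k] {G X V : Over (St k)} [GrpObj G] {a : AlgGrp.Action G X} {π : V ⟶ X}

theorem connectedSpace_of_reductive (hG : Red.IsReductive G) : ConnectedSpace G.left := by
  obtain ⟨s⟩ : Nonempty (PrimeSpectrum k) := inferInstance
  obtain ⟨-, -, hc, -⟩ := hG.2.2 s
  let g := Red.geomPt (S := St k) s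
  haveI : Surjective g := ⟨fun y => ⟨IsLocalRing.closedPoint _, Subsingleton.elim (α := PrimeSpectrum k) _ _⟩⟩
  haveI : Surjective (Limits.pullback.fst G.hom g) :=
    MorphismProperty.pullback_fst (P := @Surjective) _ _ inferInstance
  haveI : ConnectedSpace ↥(Limits.pullback G.hom g) := hc
  exact (Limits.pullback.fst G.hom g).surjective.connectedSpace (Limits.pullback.fst G.hom g).continuous

/-- an invariant function for one linearisation is invariant up to nilpotents for the other -/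
theorem isNilpotent_sub (hG : Red.IsReductive G)
    (hχ : ∀ (K : Type u) [Field K] [IsAlgClosed K] (f : Spec (CommRingCat.of K) ⟶ Spec (CommRingCat.of k))
      (χ : Red.bc f G ⟶ Red.Gm (Spec (CommRingCat.of K))) [IsMonHom χ], χ = 1)
    (A : GLinSh.LinAtlas π)
    (Φ₁ Φ₂ : AlgGrp.Action G V) (h₁ : Φ₁.act ≫ π = (G ◁ π) ≫ a.act) (h₂ : Φ₂.act ≫ π = (G ◁ π) ≫ a.act)
    (hl₁ : GLinSh.IsLinearLift a π Φ₁ A.chart h₁) (hl₂ : GLinSh.IsLinearLift a π Φ₂ A.chart h₂)
    [CompactSpace (G ⊗ V).left] {F : Γ(V.left, ⊤)}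
    (hF : Φ₁.act.left.appTop F = (snd G V).left.appTop F) :
    IsNilpotent (Φ₂.act.left.appTop F - (snd G V).left.appTop F) := by
  haveI := hG.2.1
  haveI := connectedSpace_of_reductive hG
  let W := (G ⊗ V).left
  let d : Γ(W, ⊤) := Φ₂.act.left.appTop F - (snd G V).left.appTop F
  refine (Scheme.isNilpotent_iff_basicOpen_eq_bot (X := W) d).2 (TopologicalSpace.Opens.ext ?_)
  rw [TopologicalSpace.Opens.coe_bot, Set.eq_empty_iff_forall_notMem]
  intro z hz
  let K := AlgebraicClosure (W.residueField z)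
  let ι₀ : Spec (CommRingCat.of K) ⟶ W :=
    Spec.map (CommRingCat.ofHom (algebraMap (W.residueField z) K)) ≫ W.fromSpecResidueField z
  let σ : Spec (CommRingCat.of K) ⟶ Spec (CommRingCat.of k) := ι₀ ≫ (G ⊗ V).hom
  have hK : (AlgGrp79.kPt K).hom = 𝟙 _ := Spec.map_id _
  let P : LiftEq.TT σ ⟶ G ⊗ V := Over.homMk ι₀ (by
    show ι₀ ≫ (G ⊗ V).hom = (AlgGrp79.kPt K).hom ≫ σ
    rw [hK]
    exact (Category.id_comp σ).symm)
  have e : P ≫ Φ₁.act = P ≫ Φ₂.act := by
    have hP : P = lift (P ≫ fst G V) (P ≫ snd G V) := by ext <;> simp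
    rw [hP]
    exact LiftEq.lift_eq A hχ Φ₁ Φ₂ h₁ h₂ hl₁ hl₂ _ _
  have h0 : P.left.appTop d = 0 := by
    show P.left.appTop (Φ₂.act.left.appTop F - (snd G V).left.appTop F) = 0
    rw [map_sub, ← CommRingCat.comp_apply, ← Scheme.Hom.comp_appTop, ← Over.comp_left, ← e, Over.comp_left,
      Scheme.Hom.comp_appTop, CommRingCat.comp_apply, hF, sub_self]
  have hmem : IsLocalRing.closedPoint K ∈ P.left ⁻¹ᵁ W.basicOpen d := by
    show W.fromSpecResidueField z _ ∈ W.basicOpen d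
    rw [Scheme.fromSpecResidueField_apply]
    exact hz
  have hbot : P.left ⁻¹ᵁ W.basicOpen d = ⊥ := by
    rw [Scheme.preimage_basicOpen_top, h0, Scheme.basicOpen_zero]
  rw [hbot] at hmem
  exact hmem

/-- the semistable data of one linearisation give data of the other -/
theorem exists_inv_twoLifts [CharZero k] [LocallyOfFiniteType X.hom] [QuasiCompact X.hom] (hG : Red.IsReductive G)
    (hχ : ∀ (K : Type u) [Field K] [IsAlgClosed K] (f : Spec (CommRingCat.of K) ⟶ Spec (CommRingCat.of k))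
      (χ : Red.bc f G ⟶ Red.Gm (Spec (CommRingCat.of K))) [IsMonHom χ], χ = 1)
    (A : GLinSh.LinAtlas π)
    (Φ₁ Φ₂ : AlgGrp.Action G V) (h₁ : Φ₁.act ≫ π = (G ◁ π) ≫ a.act) (h₂ : Φ₂.act ≫ π = (G ◁ π) ≫ a.act)
    (hl₁ : GLinSh.IsLinearLift a π Φ₁ A.chart h₁) (hl₂ : GLinSh.IsLinearLift a π Φ₂ A.chart h₂)
    (P : X.left.Opens → Prop) (x : X.left)
    (h : ∃ (n : ℕ) (f : Γ(V.left, ⊤)), 1 ≤ n ∧ (⟨V, π, A, Φ₁, h₁, hl₁⟩ : GLinSh.LinBun G a).IsInvSection n f ∧
      x ∈ GLinSh.nonvanishing π f ∧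
      ∃ U : X.left.Opens, (U : Set X.left) = GLinSh.nonvanishing π f ∧ IsAffineOpen U ∧ P U) :
    ∃ (n : ℕ) (f : Γ(V.left, ⊤)), 1 ≤ n ∧ (⟨V, π, A, Φ₂, h₂, hl₂⟩ : GLinSh.LinBun G a).IsInvSection n f ∧
      x ∈ GLinSh.nonvanishing π f ∧
      ∃ U : X.left.Opens, (U : Set X.left) = GLinSh.nonvanishing π f ∧ IsAffineOpen U ∧ P U := by
  obtain ⟨n, f, hn, hf, hx, U, hU, hUa, hP⟩ := h
  let B₂ : GLinSh.LinBun G a := ⟨V, π, A, Φ₂, h₂, hl₂⟩
  haveI := hG.1
  haveI : QuasiCompact G.hom := inferInstance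
  haveI : QuasiCompact V.hom := quasiCompact_total B₂
  haveI : CompactSpace (G ⊗ V).left := by
    haveI : QuasiCompact (G ⊗ V).hom := by
      show QuasiCompact (pullback.fst G.hom V.hom ≫ G.hom)
      infer_instance
    exact QuasiCompact.compactSpace_of_compactSpace (G ⊗ V).hom
  obtain ⟨m, g, hm, hg, hgU⟩ := exists_invSection_of_nilpotent hG B₂ hn hf.1
    (isNilpotent_sub hG hχ A Φ₁ Φ₂ h₁ h₂ hl₁ hl₂ hf.2) hU hUa
  exact ⟨m * n, g, Nat.mul_pos hm hn, hg, by rw [hgU, hU]; exact hx, U, hgU.symm, hUa, hP⟩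

end Groth.Agent.GIT36.SSRed
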