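import Groth.Agent.GIT36.LinUnique
import Groth.Agent.CAlg6.GrpWordBC
import Groth.Agent.AlgGrp79.BorelDesc

/-!
Two linearisations agree at geometric points when there are no characters (no hypothesis on the base).
-/

set_option autoImplicit false
set_option backward.isDefEq.respectTransparency.types false
set_option linter.style.haveILetI false
set_option linter.unusedSectionVars false

universe u

open CategoryTheory Limits MonoidalCategory CartesianMonoidalCategory MonObj AlgebraicGeometry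
open Groth.Agent.AlgGrp79

namespace Groth.Agent.GIT36.SSRed.LiftEq

variable {k : Type u} [Field k] {K : Type u} [Field K]

/-- a geometric point as an object over `k` -/
noncomputable abbrev TT (σ : Spec (CommRingCat.of K) ⟶ Spec (CommRingCat.of k)) : Over (Spec (CommRingCat.of k)) :=
  (Over.map σ).obj (kPt K)

/-- the base change as an object over `k` -/
noncomputable abbrev WW (σ : Spec (CommRingCat.of K) ⟶ Spec (CommRingCat.of k))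
    (G : Over (Spec (CommRingCat.of k))) : Over (Spec (CommRingCat.of k)) :=
  (Over.map σ).obj (Red.bc σ G)

variable {σ : Spec (CommRingCat.of K) ⟶ Spec (CommRingCat.of k)}

noncomputable def vl {Z : Over (Spec (CommRingCat.of k))} {O : Z.left.Opens} (p : TT σ ⟶ Z)
    (h : ⊤ ≤ p.left ⁻¹ᵁ O) : Γ(Z.left, O) →+* K :=
  (p.left.appLE O ⊤ h ≫ (Scheme.ΓSpecIso (CommRingCat.of K)).hom).hom

theorem vl_congr {Z : Over (Spec (CommRingCat.of k))} {O : Z.left.Opens} {p q : TT σ ⟶ Z} (e : p = q)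
    (h : ⊤ ≤ p.left ⁻¹ᵁ O) (h' : ⊤ ≤ q.left ⁻¹ᵁ O) (s : Γ(Z.left, O)) : vl p h s = vl q h' s := by
  subst e; rfl

theorem vl_comp {Z W : Over (Spec (CommRingCat.of k))} (f : Z ⟶ W) {U : W.left.Opens} {O : Z.left.Opens}
    (e : O ≤ f.left ⁻¹ᵁ U) (p : TT σ ⟶ Z) (h : ⊤ ≤ p.left ⁻¹ᵁ O) (s : Γ(W.left, U)) :
    vl p h (f.left.appLE U O e s) = vl (p ≫ f) (fun x hx => e (h hx)) s := by
  change (f.left.appLE U O e ≫ p.left.appLE O ⊤ h ≫ _) s = _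
  rw [← Category.assoc, Scheme.Hom.appLE_comp_appLE]
  rfl

theorem vl_res {Z : Over (Spec (CommRingCat.of k))} {O O' : Z.left.Opens} (i : O' ≤ O) (p : TT σ ⟶ Z)
    (h : ⊤ ≤ p.left ⁻¹ᵁ O') (s : Γ(Z.left, O)) :
    vl p h (Z.left.presheaf.map (homOfLE i).op s) = vl p (fun x hx => i (h hx)) s := by
  change (Z.left.presheaf.map (homOfLE i).op ≫ p.left.appLE O' ⊤ h ≫ _) s = _
  rw [← Category.assoc, Scheme.Hom.map_appLE]
  rfl

theorem pt_mem {Z : Over (Spec (CommRingCat.of k))} {O : Z.left.Opens} (p : TT σ ⟶ Z)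
    (h : p.left (IsLocalRing.closedPoint K) ∈ O) : ⊤ ≤ p.left ⁻¹ᵁ O := fun x _ => by
  obtain rfl : x = IsLocalRing.closedPoint K := Subsingleton.elim (α := PrimeSpectrum K) _ _
  exact h

theorem left_eq {Z : Over (Spec (CommRingCat.of k))} {O : Z.left.Opens} (hO : IsAffineOpen O)
    (p : TT σ ⟶ Z) (h : ⊤ ≤ p.left ⁻¹ᵁ O) :
    p.left = Spec.map (CommRingCat.ofHom (vl p h)) ≫ hO.fromSpec := by
  haveI : IsAffine (TT σ).left := inferInstanceAs (IsAffine (Spec (CommRingCat.of K)))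
  have := IsAffineOpen.SpecMap_appLE_fromSpec p.left hO (isAffineOpen_top (Spec (CommRingCat.of K))) h
  rw [IsAffineOpen.fromSpec_top, show (TT σ).left.isoSpec.inv =
    Spec.map (Scheme.ΓSpecIso (CommRingCat.of K)).inv from Scheme.isoSpec_Spec_inv _] at this
  simp only [vl, CommRingCat.ofHom_hom, Spec.map_comp, Category.assoc]
  rw [this, ← Category.assoc, ← Spec.map_comp, Iso.inv_hom_id, Spec.map_id, Category.id_comp]

theorem pt_ext {Z : Over (Spec (CommRingCat.of k))} {O : Z.left.Opens} (hO : IsAffineOpen O)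
    {p q : TT σ ⟶ Z} (h : ⊤ ≤ p.left ⁻¹ᵁ O) (h' : ⊤ ≤ q.left ⁻¹ᵁ O) (e : vl p h = vl q h') : p = q :=
  Over.OverMorphism.ext (by rw [left_eq hO p h, left_eq hO q h', e])

variable {X V : Over (Spec (CommRingCat.of k))} {π : V ⟶ X} (A : GLinSh.LinAtlas π)

include A in
theorem fibre_ext {U : X.left.Opens} {y : Γ(V.left, π.left ⁻¹ᵁ U)} (hy : y ∈ A.chart U)
    {v w : TT σ ⟶ V} (e : v ≫ π = w ≫ π) (hv : ⊤ ≤ v.left ⁻¹ᵁ (π.left ⁻¹ᵁ U))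
    (hw : ⊤ ≤ w.left ⁻¹ᵁ (π.left ⁻¹ᵁ U)) (h : vl v hv y = vl w hw y) : v = w := by
  have := A.affine
  obtain ⟨W, hW, hxW, hWU⟩ := exists_isAffineOpen_mem_and_subset
    (x := π.left (v.left (IsLocalRing.closedPoint K))) (U := U) (hv (x := IsLocalRing.closedPoint K) trivial)
  have hv' : ⊤ ≤ v.left ⁻¹ᵁ (π.left ⁻¹ᵁ W) := pt_mem v hxW
  have hw' : ⊤ ≤ w.left ⁻¹ᵁ (π.left ⁻¹ᵁ W) := by
    refine pt_mem w ?_
    change (w ≫ π).left (IsLocalRing.closedPoint K) ∈ W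
    rw [← e]
    exact hxW
  refine pt_ext (hW.preimage π.left) hv' hw' (RingHom.ext fun s => ?_)
  obtain ⟨p, rfl⟩ := (A.coord U y hy W hW hWU).2 s
  induction p using Polynomial.induction_on' with
  | add p q hp hq => simp only [map_add, hp, hq]
  | monomial n c =>
    have h1 : ∀ c, vl v hv' ((π.left.app W).hom c) = vl w hw' ((π.left.app W).hom c) := by
      intro c
      simp only [Scheme.Hom.app_eq_appLE]
      rw [vl_comp π le_rfl v hv', vl_comp π le_rfl w hw']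
      exact vl_congr e _ _ c
    have h2 : vl v hv' (GLinSh.res π hWU y) = vl w hw' (GLinSh.res π hWU y) := by
      unfold GLinSh.res
      rw [vl_res, vl_res]
      exact h
    rw [Polynomial.coe_eval₂RingHom, Polynomial.eval₂_monomial, map_mul, map_mul, map_pow, map_pow, h1, h2]

include A in
theorem exists_pt {U : X.left.Opens} {y : Γ(V.left, π.left ⁻¹ᵁ U)} (hy : y ∈ A.chart U)
    (x : TT σ ⟶ X) (hx : ⊤ ≤ x.left ⁻¹ᵁ U) (c : K) :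
    ∃ (v : TT σ ⟶ V) (hv : ⊤ ≤ v.left ⁻¹ᵁ (π.left ⁻¹ᵁ U)), v ≫ π = x ∧ vl v hv y = c := by
  have := A.affine
  obtain ⟨W, hW, hxW, hWU⟩ := exists_isAffineOpen_mem_and_subset
    (x := x.left (IsLocalRing.closedPoint K)) (U := U) (hx (x := IsLocalRing.closedPoint K) trivial)
  have hx' : ⊤ ≤ x.left ⁻¹ᵁ W := pt_mem x hxW
  let e := RingEquiv.ofBijective _ (A.coord U y hy W hW hWU)
  let θ : Γ(V.left, π.left ⁻¹ᵁ W) →+* K :=
    (Polynomial.eval₂RingHom (vl x hx') c).comp e.symm.toRingHom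
  let v₀ : Spec (CommRingCat.of K) ⟶ V.left := Spec.map (CommRingCat.ofHom θ) ≫ (hW.preimage π.left).fromSpec
  have hθ : ∀ s, θ ((π.left.app W).hom s) = vl x hx' s := by
    intro s
    have : e.symm ((π.left.app W).hom s) = Polynomial.C s := by
      rw [RingEquiv.symm_apply_eq]
      exact (Polynomial.eval₂_C _ _).symm
    simp [θ, this]
  have hπ : v₀ ≫ π.left = x.left := by
    rw [left_eq hW x hx']
    simp only [v₀, Category.assoc]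
    rw [← IsAffineOpen.SpecMap_appLE_fromSpec π.left hW (hW.preimage π.left) le_rfl, ← Category.assoc,
      ← Spec.map_comp]
    congr 2
    ext s
    simpa [← Scheme.Hom.app_eq_appLE] using hθ s
  let v : TT σ ⟶ V := Over.homMk v₀ (by rw [← Over.w π, reassoc_of% hπ, Over.w x])
  have hv' : ⊤ ≤ v.left ⁻¹ᵁ (π.left ⁻¹ᵁ W) := by
    refine pt_mem v ?_
    change (v₀ ≫ π.left) (IsLocalRing.closedPoint K) ∈ W
    rw [hπ]
    exact hxW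
  have hθv : vl v hv' = θ := by
    have := left_eq (hW.preimage π.left) v hv'
    exact congrArg CommRingCat.Hom.hom
      (Spec.map_injective ((cancel_mono (hW.preimage π.left).fromSpec).mp this.symm))
  refine ⟨v, fun p hp => π.left.preimage_mono hWU (hv' hp), Over.OverMorphism.ext hπ, ?_⟩
  rw [← vl_res (π.left.preimage_mono hWU) v hv', hθv]
  have : e.symm (GLinSh.res π hWU y) = Polynomial.X := by
    rw [RingEquiv.symm_apply_eq]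
    exact (Polynomial.eval₂_X _ _).symm
  simp [θ, this]

variable {G : Over (Spec (CommRingCat.of k))} [GrpObj G] {a : AlgGrp.Action G X}

theorem exists_scalar (Φ : AlgGrp.Action G V) (hΦ : Φ.act ≫ π = (G ◁ π) ≫ a.act)
    (hl : GLinSh.IsLinearLift a π Φ A.chart hΦ) {U U' : X.left.Opens} {y : Γ(V.left, π.left ⁻¹ᵁ U)}
    {y' : Γ(V.left, π.left ⁻¹ᵁ U')} (hy : y ∈ A.chart U) (hy' : y' ∈ A.chart U')
    (g : TT σ ⟶ G) (x : TT σ ⟶ X) (hx : ⊤ ≤ x.left ⁻¹ᵁ U)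
    (hx' : ⊤ ≤ (lift g x ≫ a.act).left ⁻¹ᵁ U') :
    ∃ b : K, ∀ v : TT σ ⟶ V, v ≫ π = x → ∀ (hv : ⊤ ≤ v.left ⁻¹ᵁ (π.left ⁻¹ᵁ U))
      (hv' : ⊤ ≤ (lift g v ≫ Φ.act).left ⁻¹ᵁ (π.left ⁻¹ᵁ U')),
      vl (lift g v ≫ Φ.act) hv' y' = b * vl v hv y := by
  obtain ⟨c, hc⟩ := hl U U' y y' hy hy'
  have hcx : ⊤ ≤ (lift g x).left ⁻¹ᵁ (a.act.left ⁻¹ᵁ U' ⊓ (snd G X).left ⁻¹ᵁ U) := by
    intro z hz
    refine ⟨hx' hz, ?_⟩
    change ((lift g x) ≫ snd G X).left z ∈ U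
    rw [lift_snd]
    exact hx hz
  refine ⟨vl (lift g x) hcx c, fun v hvx hv hv' => ?_⟩
  have e1 : lift g v ≫ (G ◁ π) = lift g x := by rw [lift_whiskerLeft, hvx]
  have hp : ⊤ ≤ (lift g v).left ⁻¹ᵁ GLinSh.liftOpen a π U U' := by
    intro z hz
    change (lift g v ≫ (G ◁ π)).left z ∈ a.act.left ⁻¹ᵁ U' ⊓ (snd G X).left ⁻¹ᵁ U
    rw [e1]
    exact hcx hz
  have h := congrArg (vl (lift g v) hp) hc
  rw [map_mul, vl_comp, vl_comp, vl_comp] at h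
  rw [vl_congr e1 _ hcx, vl_congr (lift_snd g v) _ hv] at h
  exact h

theorem gval_eq_vl (σ : Spec (CommRingCat.of K) ⟶ Spec (CommRingCat.of k)) {Y : Over (Spec (CommRingCat.of K))}
    (p : kPt K ⟶ Y) (f : Γ(Y.left, ⊤)) :
    gval p f = vl (Z := (Over.map σ).obj Y) (O := (⊤ : Y.left.Opens)) ((Over.map σ).map p) (fun _ _ => trivial) f := by
  simp [gval, vl, Scheme.Hom.app_eq_appLE]

theorem lift_eq [IsAlgClosed K] [Smooth G.hom] [ConnectedSpace G.left]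
    (hχ : ∀ (K : Type u) [Field K] [IsAlgClosed K] (f : Spec (CommRingCat.of K) ⟶ Spec (CommRingCat.of k))
      (χ : Red.bc f G ⟶ Red.Gm (Spec (CommRingCat.of K))) [IsMonHom χ], χ = 1)
    (Φ₁ Φ₂ : AlgGrp.Action G V) (h₁ : Φ₁.act ≫ π = (G ◁ π) ≫ a.act) (h₂ : Φ₂.act ≫ π = (G ◁ π) ≫ a.act)
    (hl₁ : GLinSh.IsLinearLift a π Φ₁ A.chart h₁) (hl₂ : GLinSh.IsLinearLift a π Φ₂ A.chart h₂)
    (g : TT σ ⟶ G) (v : TT σ ⟶ V) : lift g v ≫ Φ₁.act = lift g v ≫ Φ₂.act := by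
  obtain ⟨U, hxU, y, hy⟩ := A.cover ((v ≫ π).left (IsLocalRing.closedPoint K))
  set x := v ≫ π with hx
  have hxU' : ⊤ ≤ x.left ⁻¹ᵁ U := pt_mem x hxU
  obtain ⟨v₁, hv₁, hv₁π, hv₁y⟩ := exists_pt A hy x hxU' 1
  have hΦ : ∀ (Φ : AlgGrp.Action G V), Φ.act ≫ π = (G ◁ π) ≫ a.act →
      ∀ (h : TT σ ⟶ G) (w : TT σ ⟶ V), (lift h w ≫ Φ.act) ≫ π = lift h (w ≫ π) ≫ a.act := by
    intro Φ hΦ h w
    rw [Category.assoc, hΦ, lift_whiskerLeft_assoc]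
  have over_x : ∀ w : TT σ ⟶ V, w ≫ π = x → ⊤ ≤ w.left ⁻¹ᵁ (π.left ⁻¹ᵁ U) := by
    intro w hw
    change ⊤ ≤ (w ≫ π).left ⁻¹ᵁ U
    rw [hw]; exact hxU'
  -- the twisted product
  obtain ⟨i⟩ := kPt_iso (k := K)
  let p₀ : WW σ G ⟶ TT σ := (Over.map σ).map (toUnit (Red.bc σ G) ≫ i.inv)
  let pr : WW σ G ⟶ G := (CAlg6.GrpWord.phiE σ (Red.bc σ G) G).symm (𝟙 _)
  let up (h : kPt K ⟶ Red.bc σ G) : TT σ ⟶ WW σ G := (Over.map σ).map h
  let dn (h : kPt K ⟶ Red.bc σ G) : TT σ ⟶ G := up h ≫ pr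
  have hup : ∀ h, up h ≫ p₀ = 𝟙 _ := fun h => by
    show (Over.map σ).map h ≫ (Over.map σ).map _ = _
    rw [← Functor.map_comp, LinUnique.kPt_subsingleton (h ≫ toUnit _ ≫ i.inv) (𝟙 _), CategoryTheory.Functor.map_id]
  have hdn : ∀ h, dn h = (CAlg6.GrpWord.phiE σ (kPt K) G).symm h := fun h => by
    rw [Equiv.eq_symm_apply]
    show CAlg6.GrpWord.phiE σ (kPt K) G ((Over.map σ).map h ≫ pr) = h
    rw [CAlg6.GrpWord.phiE_precomp, Equiv.apply_symm_apply, Category.comp_id]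
  let c₁ : WW σ G ⟶ V := p₀ ≫ v₁
  have hc₁ : ∀ h, up h ≫ c₁ = v₁ := fun h => by
    simp only [c₁, ← Category.assoc, hup, Category.id_comp]
  let m (Φ Φ' : AlgGrp.Action G V) : WW σ G ⟶ V := lift pr⁻¹ (lift pr c₁ ≫ Φ.act) ≫ Φ'.act
  have hm : ∀ Φ Φ', Φ.act ≫ π = (G ◁ π) ≫ a.act → Φ'.act ≫ π = (G ◁ π) ≫ a.act →
      m Φ Φ' ≫ π = p₀ ≫ x := by
    intro Φ Φ' hΦa hΦb
    simp only [m, Category.assoc, hΦb, lift_whiskerLeft_assoc, hΦa]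
    rw [AlgGrp79.inv_act_act]
    simp only [c₁, Category.assoc, hv₁π]
  have hmU : ∀ Φ Φ', Φ.act ≫ π = (G ◁ π) ≫ a.act → Φ'.act ≫ π = (G ◁ π) ≫ a.act →
      ⊤ ≤ (m Φ Φ').left ⁻¹ᵁ (π.left ⁻¹ᵁ U) := by
    intro Φ Φ' hΦa hΦb z _
    change (m Φ Φ' ≫ π).left z ∈ U
    rw [hm Φ Φ' hΦa hΦb]
    change x.left (p₀.left z) ∈ U
    exact hxU' trivial
  have hmh : ∀ Φ Φ' (h : kPt K ⟶ Red.bc σ G), up h ≫ m Φ Φ' = lift (dn h)⁻¹ (lift (dn h) v₁ ≫ Φ.act) ≫ Φ'.act := by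
    intro Φ Φ' h
    simp only [m]
    rw [comp_lift_assoc, GrpObj.comp_inv, comp_lift_assoc, hc₁]
  let f : Γ((Red.bc σ G).left, ⊤) := (m Φ₁ Φ₂).left.appLE (π.left ⁻¹ᵁ U) ⊤ (hmU Φ₁ Φ₂ h₁ h₂) y
  let f' : Γ((Red.bc σ G).left, ⊤) := (m Φ₂ Φ₁).left.appLE (π.left ⁻¹ᵁ U) ⊤ (hmU Φ₂ Φ₁ h₂ h₁) y
  -- scalars
  have key : ∀ p : kPt K ⟶ Red.bc σ G, gval p f * gval p f' = 1 ∧
      ∀ w : TT σ ⟶ V, w ≫ π = x → ∀ hw hw',
        vl (lift (dn p)⁻¹ (lift (dn p) w ≫ Φ₁.act) ≫ Φ₂.act) hw' y = gval p f * vl w hw y := by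
    intro p
    generalize hh : dn p = h
    set x' := lift h x ≫ a.act
    obtain ⟨U', hxU2, y', hy'⟩ := A.cover (x'.left (IsLocalRing.closedPoint K))
    have hx'U : ⊤ ≤ x'.left ⁻¹ᵁ U' := pt_mem x' hxU2
    have hback : lift h⁻¹ x' ≫ a.act = x := AlgGrp79.inv_act_act a h x
    have hback' : ⊤ ≤ (lift h⁻¹ x' ≫ a.act).left ⁻¹ᵁ U := by rw [hback]; exact hxU'
    obtain ⟨b₁, hb₁⟩ := exists_scalar A Φ₁ h₁ hl₁ hy hy' h x hxU' hx'U
    obtain ⟨b₂, hb₂⟩ := exists_scalar A Φ₂ h₂ hl₂ hy hy' h x hxU' hx'U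
    obtain ⟨a₁, ha₁⟩ := exists_scalar A Φ₁ h₁ hl₁ hy' hy h⁻¹ x' hx'U hback'
    obtain ⟨a₂, ha₂⟩ := exists_scalar A Φ₂ h₂ hl₂ hy' hy h⁻¹ x' hx'U hback'
    have comb : ∀ (Φ Φ' : AlgGrp.Action G V), Φ.act ≫ π = (G ◁ π) ≫ a.act →
        Φ'.act ≫ π = (G ◁ π) ≫ a.act → ∀ (b c : K),
        (∀ w : TT σ ⟶ V, w ≫ π = x → ∀ hw hw', vl (lift h w ≫ Φ.act) hw' y' = b * vl w hw y) →
        (∀ w : TT σ ⟶ V, w ≫ π = x' → ∀ hw hw', vl (lift h⁻¹ w ≫ Φ'.act) hw' y = c * vl w hw y') →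
        ∀ w : TT σ ⟶ V, w ≫ π = x → ∀ hw hw',
          vl (lift h⁻¹ (lift h w ≫ Φ.act) ≫ Φ'.act) hw' y = (c * b) * vl w hw y := by
      intro Φ Φ' hΦa hΦb b c hb hc w hw hw1 hw2
      have e : (lift h w ≫ Φ.act) ≫ π = x' := by rw [hΦ Φ hΦa, hw]
      have hmem : ⊤ ≤ (lift h w ≫ Φ.act).left ⁻¹ᵁ (π.left ⁻¹ᵁ U') := by
        change ⊤ ≤ ((lift h w ≫ Φ.act) ≫ π).left ⁻¹ᵁ U'
        rw [e]; exact hx'U
      rw [hc _ e hmem hw2, hb w hw hw1 hmem, _root_.mul_assoc]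
    have e12 := comb Φ₁ Φ₂ h₁ h₂ b₁ a₂ hb₁ ha₂
    have e21 := comb Φ₂ Φ₁ h₂ h₁ b₂ a₁ hb₂ ha₁
    have e11 := comb Φ₁ Φ₁ h₁ h₁ b₁ a₁ hb₁ ha₁
    have e22 := comb Φ₂ Φ₂ h₂ h₂ b₂ a₂ hb₂ ha₂
    have val : ∀ (Φ : AlgGrp.Action G V) (c : K),
        (∀ w : TT σ ⟶ V, w ≫ π = x → ∀ hw hw',
          vl (lift h⁻¹ (lift h w ≫ Φ.act) ≫ Φ.act) hw' y = c * vl w hw y) → c = 1 := by
      intro Φ c hc
      have h0 := hc v₁ hv₁π hv₁ (by rw [AlgGrp79.inv_act_act]; exact hv₁)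
      rw [vl_congr (AlgGrp79.inv_act_act Φ h v₁) _ hv₁, hv₁y, _root_.mul_one] at h0
      exact h0.symm
    have gv : ∀ (Φ Φ' : AlgGrp.Action G V) (hΦa : Φ.act ≫ π = (G ◁ π) ≫ a.act)
        (hΦb : Φ'.act ≫ π = (G ◁ π) ≫ a.act) (c : K),
        (∀ w : TT σ ⟶ V, w ≫ π = x → ∀ hw hw',
          vl (lift h⁻¹ (lift h w ≫ Φ.act) ≫ Φ'.act) hw' y = c * vl w hw y) →
        gval p (((m Φ Φ').left.appLE (π.left ⁻¹ᵁ U) ⊤ (hmU Φ Φ' hΦa hΦb) y : Γ((Red.bc σ G).left, ⊤))) = c := by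
      intro Φ Φ' hΦa hΦb c hc
      have hmem : ⊤ ≤ (up p ≫ m Φ Φ').left ⁻¹ᵁ (π.left ⁻¹ᵁ U) :=
        fun z _ => hmU Φ Φ' hΦa hΦb (x := (up p).left z) trivial
      have h0 := hc v₁ hv₁π hv₁ (by rw [← hh, ← hmh]; exact hmem)
      rw [hv₁y, _root_.mul_one] at h0
      rw [gval_eq_vl σ, vl_comp]
      exact (vl_congr ((hmh Φ Φ' p).trans (by rw [hh])) _ _ y).trans h0
    have hf : gval p f = a₂ * b₁ := gv Φ₁ Φ₂ h₁ h₂ _ e12
    have hf' : gval p f' = a₁ * b₂ := gv Φ₂ Φ₁ h₂ h₁ _ e21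
    refine ⟨?_, fun w hw hw1 hw2 => by rw [e12 w hw hw1 hw2, hf]⟩
    rw [hf, hf']
    calc a₂ * b₁ * (a₁ * b₂) = (a₁ * b₁) * (a₂ * b₂) := by ring
      _ = 1 := by rw [val Φ₁ _ e11, val Φ₂ _ e22, _root_.mul_one]
  haveI : Smooth (Red.bc σ G).hom := inferInstanceAs (Smooth (pullback.snd G.hom σ))
  haveI := BorelDesc.connectedSpace_bc (G := G) σ
  have := isReduced_of_smooth (Red.bc σ G).hom
  have hff : f * f' = 1 := eq_of_gval _ _ fun h => by rw [gval_mul, gval_one, (key h).1]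
  have hu : IsUnit f := IsUnit.of_mul_eq_one f' hff
  have hdn1 : dn 1 = 1 := by
    rw [hdn, Equiv.symm_apply_eq]
    exact (map_one (CAlg6.GrpWord.phi σ (kPt K))).symm
  have hf1 : gval (1 : kPt K ⟶ Red.bc σ G) f = 1 := by
    rw [gval_eq_vl σ, vl_comp]
    refine (vl_congr (q := v₁) ?_ _ hv₁ y).trans hv₁y
    show up 1 ≫ m Φ₁ Φ₂ = v₁
    rw [hmh, hdn1, _root_.inv_one, AlgGrp79.one_act', AlgGrp79.one_act']
  have hmul := isCharacter_of_unit f hu fun u => by rw [gval_eta, hf1]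
  let χ : Red.bc σ G ⟶ Red.Gm (Spec (CommRingCat.of K)) := GmPts.ptOfUnit hu.unit
  have : IsMonHom χ := by
    refine AlgGrp79.isMonHom_of_forall χ fun T p q => ?_
    apply (GmPts.equiv T).injective
    rw [map_mul]
    refine Units.ext ?_
    change (GmPts.unitOfPt ((p * q) ≫ χ) : Γ(T.left, ⊤)) =
      (GmPts.unitOfPt (p ≫ χ) : Γ(T.left, ⊤)) * (GmPts.unitOfPt (q ≫ χ) : Γ(T.left, ⊤))
    have hc : ∀ r : T ⟶ Red.bc σ G, (GmPts.unitOfPt (r ≫ χ) : Γ(T.left, ⊤)) = r.left.appTop f := by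
      intro r
      rw [GmPts.unitOfPt_comp]
      simp [χ, GmPts.unitOfPt_ptOfUnit]
    clear_value f
    rw [hc, hc, hc, Hom.mul_def, Over.comp_left, Scheme.Hom.comp_appTop, CommRingCat.comp_apply, hmul,
      map_mul, ← CommRingCat.comp_apply, ← CommRingCat.comp_apply, ← Scheme.Hom.comp_appTop,
      ← Scheme.Hom.comp_appTop, ← Over.comp_left, ← Over.comp_left, lift_fst, lift_snd]
  have hfone : f = 1 := by
    have := congrArg (fun t => (GmPts.unitOfPt t : Γ((Red.bc σ G).left, ⊤))) (hχ K σ χ)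
    simpa [χ, GmPts.unitOfPt_ptOfUnit, GmPts.unitOfPt_one] using this
  have hv : ⊤ ≤ v.left ⁻¹ᵁ (π.left ⁻¹ᵁ U) := over_x v rfl
  have hw : (lift g⁻¹ (lift g v ≫ Φ₁.act) ≫ Φ₂.act) ≫ π = x := by
    rw [hΦ Φ₂ h₂, hΦ Φ₁ h₁, AlgGrp79.inv_act_act]
  have hvw : lift g⁻¹ (lift g v ≫ Φ₁.act) ≫ Φ₂.act = v := by
    refine fibre_ext A hy hw (over_x _ hw) hv ?_
    have hg : dn (CAlg6.GrpWord.phiE σ (kPt K) G g) = g := by rw [hdn, Equiv.symm_apply_apply]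
    have h := (key (CAlg6.GrpWord.phiE σ (kPt K) G g)).2
    rw [hg] at h
    rw [h v rfl hv (over_x _ hw), hfone, gval_one, _root_.one_mul]
  conv_rhs => rw [← hvw]
  rw [AlgGrp79.act_inv_act]

end Groth.Agent.GIT36.SSRed.LiftEq
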