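import Groth.Agent.GIT36.SSRed.Core
import Groth.Agent.GIT36.SSRed.Lift
import Groth.Agent.GIT36.LinUnique

/-!
Semi-stable and stable loci of the reduction.
-/

set_option autoImplicit false
set_option backward.isDefEq.respectTransparency.types false
set_option linter.style.haveILetI false
set_option linter.unusedSectionVars false
set_option maxHeartbeats 600000

universe u

open CategoryTheory CategoryTheory.Limits MonoidalCategory CartesianMonoidalCategory MonObj GrpObj AlgebraicGeometry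
  Opposite TopologicalSpace
open Groth.Agent.GIT36.Sections Groth.Agent.GIT36.Proj Groth.Agent.GIT36.Mu

noncomputable section

namespace Groth.Agent.GIT36.SSRed

theorem isIso_of_app_bijective {Y Z : Scheme.{u}} (c : Y ⟶ Z) {J : Type u} (O : J → Z.Opens) (hO : iSup O = ⊤)
    (hOa : ∀ i, IsAffineOpen (O i)) (hpre : ∀ i, IsAffineOpen (c ⁻¹ᵁ O i))
    (hbij : ∀ i, Function.Bijective (c.app (O i))) : IsIso c := by
  show MorphismProperty.isomorphisms Scheme c
  rw [IsZariskiLocalAtTarget.iff_of_iSup_eq_top (P := MorphismProperty.isomorphisms Scheme) O hO]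
  intro i
  haveI : IsAffine (O i).toScheme := hOa i
  haveI : IsAffine (c ⁻¹ᵁ O i).toScheme := hpre i
  haveI : IsIso (c.app (O i)) := (ConcreteCategory.isIso_iff_bijective _).2 (hbij i)
  show IsIso (c ∣_ O i)
  have h : IsIso (c ∣_ O i).appTop := by
    rw [show (c ∣_ O i).appTop = (O i).topIso.hom ≫ c.app (O i) ≫ (c ⁻¹ᵁ O i).topIso.inv by
      rw [← Scheme.Hom.resLE_eq_morphismRestrict, Scheme.Hom.app_eq_appLE]
      exact Scheme.Hom.resLE_app_top c le_rfl]
    infer_instance
  haveI := h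
  have e : c ∣_ O i = (c ⁻¹ᵁ O i).toScheme.isoSpec.hom ≫ Spec.map (c ∣_ O i).appTop ≫ (O i).toScheme.isoSpec.inv := by
    rw [← Category.assoc, Scheme.isoSpec_hom_naturality, Category.assoc, Iso.hom_inv_id, Category.comp_id]
  rw [e]
  infer_instance

section Red

variable {k : Type u} [Field k] {G X Xr : Over (St k)} [GrpObj G] {a : AlgGrp.Action G X} {B : GLinSh.LinBun G a}
  (j : Xr ⟶ X) [IsClosedImmersion j.left]
  {ar : AlgGrp.Action G Xr} {Br : GLinSh.LinBun G ar} {q : Br.V ⟶ B.V} (hq : Br.π ≫ j = q ≫ B.π)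
  (hle : ∀ U : X.left.Opens, Br.π.left ⁻¹ᵁ (j.left ⁻¹ᵁ U) ≤ q.left ⁻¹ᵁ (B.π.left ⁻¹ᵁ U))
  (hchart : ∀ (U : X.left.Opens) (y : Γ(B.V.left, B.π.left ⁻¹ᵁ U)), y ∈ B.atlas.chart U →
    q.left.appLE (B.π.left ⁻¹ᵁ U) (Br.π.left ⁻¹ᵁ (j.left ⁻¹ᵁ U)) (hle U) y ∈ Br.atlas.chart (j.left ⁻¹ᵁ U))

include hq hle hchart in
/-- the map of total spaces is the base change -/
theorem isPullback_q : IsPullback q.left Br.π.left B.π.left j.left := by
  haveI := B.atlas.affine
  haveI := Br.atlas.affine
  have hw : q.left ≫ B.π.left = Br.π.left ≫ j.left := by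
    rw [← Over.comp_left, ← Over.comp_left, hq]
  have hpb := IsPullback.of_hasPullback B.π.left j.left
  let c : Br.V.left ⟶ pullback B.π.left j.left := pullback.lift q.left Br.π.left hw
  haveI : IsAffineHom (pullback.snd B.π.left j.left) := MorphismProperty.pullback_snd (P := @IsAffineHom) _ _ inferInstance
  suffices IsIso c by
    haveI := this
    exact IsPullback.of_iso_pullback ⟨hw⟩ (asIso c) (pullback.lift_fst _ _ _) (pullback.lift_snd _ _ _)
  choose U₀ hxU hne using fun x : X.left => B.atlas.cover x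
  choose y₀ hy₀ using hne
  choose W hWa hxW hWU using fun x : X.left => exists_affine_le (hxU x)
  let π₂ := pullback.snd B.π.left j.left
  refine isIso_of_app_bijective c (fun x => π₂ ⁻¹ᵁ (j.left ⁻¹ᵁ W x)) ?_ (fun x => ((hWa x).preimage j.left).preimage π₂)
    (fun x => ?_) fun x => ?_
  · refine top_le_iff.1 fun v _ => Opens.mem_iSup.2 ⟨j.left (π₂ v), hxW _⟩
  · rw [← Scheme.Hom.comp_preimage, show c ≫ π₂ = Br.π.left from pullback.lift_snd _ _ _]
    exact ((hWa x).preimage j.left).preimage Br.π.left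
  · have e' : π₂ ⁻¹ᵁ (j.left ⁻¹ᵁ U₀ x) ≤ pullback.fst B.π.left j.left ⁻¹ᵁ (B.π.left ⁻¹ᵁ U₀ x) := by
      rw [← Scheme.Hom.comp_preimage, ← pullback.condition, Scheme.Hom.comp_preimage]
    have h₁ := LineBundle.bijective_evalAt_baseChange (π' := π₂) hpb (y₀ x)
      (fun W' hW' h' => B.atlas.coord _ _ (hy₀ x) W' hW' h') le_rfl e' ((hWa x).preimage j.left)
      (j.left.preimage_mono (hWU x))
    have h₂ := Br.atlas.coord _ _ (hchart _ _ (hy₀ x)) (j.left ⁻¹ᵁ W x) ((hWa x).preimage j.left)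
      (j.left.preimage_mono (hWU x))
    have hcπ : c ≫ π₂ = Br.π.left := pullback.lift_snd _ _ _
    have hcf : c ≫ pullback.fst B.π.left j.left = q.left := pullback.lift_fst _ _ _
    have hle' : Br.π.left ⁻¹ᵁ (j.left ⁻¹ᵁ W x) ≤ c ⁻¹ᵁ (π₂ ⁻¹ᵁ (j.left ⁻¹ᵁ W x)) :=
      le_of_eq (by rw [← hcπ]; rfl)
    have key : ∀ p, c.appLE _ _ hle' (LineBundle.evalAt π₂ ((pullback.fst B.π.left j.left).appLE _ _ e' (y₀ x))
        (j.left.preimage_mono (hWU x)) p) = Polynomial.eval₂RingHom (Br.π.left.app (j.left ⁻¹ᵁ W x)).hom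
          (GLinSh.res Br.π (j.left.preimage_mono (hWU x)) (q.left.appLE _ _ (hle (U₀ x)) (y₀ x))) p := by
      intro p
      induction p using Polynomial.induction_on' with
      | add p r hp hr => simp only [map_add, hp, hr]
      | monomial i d =>
        rw [evalAt_apply, Polynomial.coe_eval₂RingHom, Polynomial.eval₂_monomial, Polynomial.eval₂_monomial,
          map_mul, map_pow]
        refine congrArg₂ (fun u v => u * v ^ i) ?_ ?_
        · simp only [Scheme.Hom.app_eq_appLE, ← CommRingCat.comp_apply, Scheme.Hom.appLE_comp_appLE]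
          exact congr($(LineBundle.appLE_congr_hom hcπ _ _).hom d)
        · simp only [GLinSh.res, rs, ← CommRingCat.comp_apply, Scheme.Hom.appLE_map,
            Scheme.Hom.appLE_comp_appLE]
          exact congr($(LineBundle.appLE_congr_hom hcf _ _).hom (y₀ x))
    have hb : Function.Bijective (c.appLE _ _ hle') := by
      refine (Function.Bijective.of_comp_iff _ h₁).1 ?_
      rw [show _ ∘ _ = _ from funext key]
      exact h₂
    have : c.app (π₂ ⁻¹ᵁ (j.left ⁻¹ᵁ W x)) ≫ Br.V.left.presheaf.map (homOfLE hle').op = c.appLE _ _ hle' := rfl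
    have hiso : IsIso (Br.V.left.presheaf.map (homOfLE hle').op) := by
      have e : c ⁻¹ᵁ (π₂ ⁻¹ᵁ (j.left ⁻¹ᵁ W x)) = Br.π.left ⁻¹ᵁ (j.left ⁻¹ᵁ W x) := by
        rw [← hcπ]; rfl
      rw [show (homOfLE hle').op = eqToHom (congrArg op e) from Subsingleton.elim _ _]
      infer_instance
    rw [← this] at hb
    exact (Function.Bijective.of_comp_iff' ((ConcreteCategory.isIso_iff_bijective _).1 hiso) _).1
      (by convert hb using 1; exact (funext fun _ => (CommRingCat.comp_apply _ _ _).symm))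

include hq hle hchart in
theorem closed_surjective_q (hj : Function.Surjective j.left.base) :
    IsClosedImmersion q.left ∧ Surjective q.left := by
  have h := (isPullback_q j hq hle hchart).flip
  haveI : Surjective j.left := ⟨hj⟩
  exact ⟨MorphismProperty.of_isPullback (P := @IsClosedImmersion) h inferInstance,
    MorphismProperty.of_isPullback (P := @Surjective) h inferInstance⟩

variable (har : ar.act ≫ j = (G ◁ j) ≫ a.act) (hlift : Br.lift.act ≫ q = (G ◁ q) ≫ B.lift.act)

include hq hle hchart hlift in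
/-- invariant sections restrict to the reduction -/
theorem inv_restrict {n : ℕ} {f : Γ(B.V.left, ⊤)} (hf : B.IsInvSection n f) :
    Br.IsInvSection n (q.left.appTop f) ∧
      GLinSh.nonvanishing Br.π (q.left.appTop f) = j.left.base ⁻¹' GLinSh.nonvanishing B.π f := by
  haveI := B.atlas.affine
  haveI := Br.atlas.affine
  have hpb := isPullback_q j hq hle hchart
  refine ⟨⟨fun U' y' hy' => exists_coef_of_locally (Br.atlas.coord U' y' hy') n _ fun x hx => ?_, ?_⟩, nv_pull hpb f⟩
  · obtain ⟨U, hxU, y, hy⟩ := B.atlas.cover (j.left x)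
    obtain ⟨d, hd⟩ := hf.1 U y hy
    obtain ⟨c, hc, hcy⟩ := Br.atlas.linear U' (j.left ⁻¹ᵁ U) y' _ hy' (hchart U y hy)
    have hcy' : rs (Br.π.left.preimage_mono (inf_le_right : U' ⊓ j.left ⁻¹ᵁ U ≤ j.left ⁻¹ᵁ U))
        (q.left.appLE (B.π.left ⁻¹ᵁ U) (Br.π.left ⁻¹ᵁ (j.left ⁻¹ᵁ U)) (hle U) y) =
          Br.π.left.app (U' ⊓ j.left ⁻¹ᵁ U) c * rs (Br.π.left.preimage_mono inf_le_left) y' := hcy
    refine ⟨U' ⊓ j.left ⁻¹ᵁ U, inf_le_left, ⟨hx, hxU⟩, j.left.appLE U _ inf_le_right d * c ^ n, ?_⟩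
    rw [rs_appTop f ((Br.π.left.preimage_mono inf_le_right).trans (hle U)), show rs le_top f = _ from hd, map_mul,
      map_pow, appLE_app hpb.w inf_le_right d, map_mul (Br.π.left.app (U' ⊓ j.left ⁻¹ᵁ U)).hom, map_pow,
      _root_.mul_assoc, ← mul_pow, ← hcy']
    refine congrArg₂ (fun u v => u * v ^ n) rfl ?_
    simp only [rs, ← CommRingCat.comp_apply, Scheme.Hom.appLE_map]
  · show Br.lift.act.left.appTop (q.left.appTop f) = (snd G Br.V).left.appTop (q.left.appTop f)
    rw [← CommRingCat.comp_apply, ← CommRingCat.comp_apply, ← Scheme.Hom.comp_appTop, ← Scheme.Hom.comp_appTop,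
      ← Over.comp_left, ← Over.comp_left, hlift, ← whiskerLeft_snd, Over.comp_left, Over.comp_left,
      Scheme.Hom.comp_appTop, Scheme.Hom.comp_appTop, CommRingCat.comp_apply, CommRingCat.comp_apply,
      show B.lift.act.left.appTop f = _ from hf.2]

include hq hle hchart hlift in
/-- invariant sections of the reduction with affine locus lift up to powers -/
theorem inv_lift [CharZero k] [LocallyOfFiniteType X.hom] [QuasiCompact X.hom] [AlgebraicGeometry.IsReduced Xr.left]
    (hG : Red.IsReductive G) (hj : Function.Surjective j.left.base) {n : ℕ} (hn : 1 ≤ n) {f : Γ(Br.V.left, ⊤)}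
    (hf : Br.IsInvSection n f) {Ur : Xr.left.Opens} (hUr : (Ur : Set Xr.left) = GLinSh.nonvanishing Br.π f)
    (hUa : IsAffineOpen Ur) :
    ∃ (m : ℕ) (g : Γ(B.V.left, ⊤)) (U : X.left.Opens), 1 ≤ m ∧ B.IsInvSection m g ∧
      (U : Set X.left) = GLinSh.nonvanishing B.π g ∧ IsAffineOpen U ∧ j.left ⁻¹ᵁ U = Ur := by
  haveI := B.atlas.affine
  haveI := Br.atlas.affine
  haveI := hG.1
  haveI : IsAffine G.left := isAffine_of_isAffineHom G.hom
  haveI : Surjective j.left := ⟨hj⟩
  obtain ⟨hqc, hqs⟩ := closed_surjective_q j hq hle hchart hj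
  haveI := hqc
  haveI := hqs
  haveI : CompactSpace X.left := QuasiCompact.compactSpace_of_compactSpace X.hom
  haveI := quasiCompact_total B
  haveI : CompactSpace B.V.left := QuasiCompact.compactSpace_of_compactSpace B.V.hom
  haveI : IsLocallyNoetherian X.left := LocallyOfFiniteType.isLocallyNoetherian X.hom
  haveI := quasiSeparated_total B
  haveI : QuasiSeparatedSpace B.V.left := quasiSeparatedSpace_of_quasiSeparated B.V.hom
  haveI : AlgebraicGeometry.IsReduced Br.V.left := LinUnique.isReduced_of_linAtlas Br.atlas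
  obtain ⟨U, hU⟩ := VarGal.exists_opens j.left Ur
  have hUaff : IsAffineOpen U := by
    haveI : IsAffine (j.left ⁻¹ᵁ U).toScheme := by rw [hU]; exact hUa
    haveI : IsClosedImmersion (j.left ∣_ U) := MorphismProperty.of_isPullback (P := @IsClosedImmersion)
      (isPullback_morphismRestrict j.left U).flip inferInstance
    haveI : Surjective (j.left ∣_ U) := MorphismProperty.of_isPullback (P := @Surjective)
      (isPullback_morphismRestrict j.left U).flip inferInstance
    exact VarGal.isAffine_of_thickening (j.left ∣_ U)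
  let Dr := Br.V.left.basicOpen f
  obtain ⟨D, hD⟩ := VarGal.exists_opens q.left Dr
  have hDr : IsAffineOpen Dr := by
    have hle' : Dr ≤ Br.π.left ⁻¹ᵁ Ur := fun v hv => by
      show Br.π.left v ∈ Ur
      rw [← SetLike.mem_coe, hUr]
      exact ⟨v, hv, rfl⟩
    have h := (hUa.preimage Br.π.left).basicOpen (rs le_top f)
    rwa [rs, Scheme.basicOpen_res, inf_eq_right.2 hle'] at h
  have hDa : IsAffineOpen D := by
    haveI : IsAffine (q.left ⁻¹ᵁ D).toScheme := by rw [hD]; exact hDr
    haveI : IsClosedImmersion (q.left ∣_ D) := MorphismProperty.of_isPullback (P := @IsClosedImmersion)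
      (isPullback_morphismRestrict q.left D).flip inferInstance
    haveI : Surjective (q.left ∣_ D) := MorphismProperty.of_isPullback (P := @Surjective)
      (isPullback_morphismRestrict q.left D).flip inferInstance
    exact VarGal.isAffine_of_thickening (q.left ∣_ D)
  obtain ⟨m, H, hm, hH⟩ := exists_lift_pow q.left f hD hDa
  have hlin : ∀ (U₁ U₂ : X.left.Opens) (y : Γ(B.V.left, B.π.left ⁻¹ᵁ U₁)) (y' : Γ(B.V.left, B.π.left ⁻¹ᵁ U₂)),
      y ∈ (atlasB B).chart U₁ → y' ∈ (atlasB B).chart U₂ → ∃ c : Γ(X.left, U₁ ⊓ U₂),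
        rs (B.π.left.preimage_mono inf_le_right) y' =
          B.π.left.app (U₁ ⊓ U₂) c * rs (B.π.left.preimage_mono inf_le_left) y := fun U₁ U₂ y y' hy hy' => by
    obtain ⟨c, -, hc⟩ := B.atlas.linear U₁ U₂ y y' hy hy'
    exact ⟨c, hc⟩
  obtain ⟨F, hF, hFc⟩ := exists_component (atlasB B) hlin (m * n) H
  have hfm : (atlasB Br).Wt (m * n) (f ^ m) := Atlas.Wt.pow (A := atlasB Br) hf.1 m
  have hw := (isPullback_q j hq hle hchart).w
  have hqF : q.left.appTop F = f ^ m := by
    refine eq_of_locally _ _ fun v _ => ?_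
    obtain ⟨U₁, hxU, y, hy⟩ := B.atlas.cover (j.left (Br.π.left v))
    obtain ⟨W, hWa, hxW, hW⟩ := exists_affine_le hxU
    obtain ⟨p, hp⟩ := (B.atlas.coord U₁ y hy W hWa hW).2 (rs le_top H)
    have hF' := hFc U₁ W y hy hWa hW p hp
    obtain ⟨cb, hcb⟩ := hfm _ _ (hchart U₁ y hy)
    let W' := j.left ⁻¹ᵁ W
    have hWU : W' ≤ j.left ⁻¹ᵁ U₁ := j.left.preimage_mono hW
    let yb := q.left.appLE (B.π.left ⁻¹ᵁ U₁) (Br.π.left ⁻¹ᵁ (j.left ⁻¹ᵁ U₁)) (hle U₁) y
    let jW := (j.left.appLE W W' le_rfl).hom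
    have e : Br.π.left ⁻¹ᵁ W' ≤ q.left ⁻¹ᵁ (B.π.left ⁻¹ᵁ W) := le_preimage_of_comm hw le_rfl
    have hbase : ∀ d, q.left.appLE _ _ e (B.π.left.app W d) = Br.π.left.app W' (jW d) := appLE_app hw le_rfl
    have hyy : q.left.appLE _ _ e (rs (B.π.left.preimage_mono hW) y) = rs (Br.π.left.preimage_mono hWU) yb := by
      simp only [yb, rs, ← CommRingCat.comp_apply, Scheme.Hom.appLE_map, Scheme.Hom.map_appLE]
    have hq' : q.left.appLE _ _ e (LineBundle.evalAt B.π.left y hW p) =
        LineBundle.evalAt Br.π.left yb hWU (p.map jW) := by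
      rw [evalAt_apply, evalAt_apply, Polynomial.eval₂_map, Polynomial.hom_eval₂, hyy]
      congr 1
      exact RingHom.ext hbase
    have hpc : p.map jW = Polynomial.C (rs hWU cb) * Polynomial.X ^ (m * n) := by
      refine (Br.atlas.coord _ _ (hchart U₁ y hy) W' (hWa.preimage j.left) hWU).1 ?_
      show LineBundle.evalAt Br.π.left yb hWU _ = LineBundle.evalAt Br.π.left yb hWU _
      rw [← hq', hp, evalAt_apply, Polynomial.eval₂_mul, Polynomial.eval₂_C, Polynomial.eval₂_pow,
        Polynomial.eval₂_X, ← rs_appTop H e, hH, Atlas.Wt.res hcb hWU]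
    refine ⟨Br.π.left ⁻¹ᵁ W', le_top, hxW, ?_⟩
    rw [rs_appTop F e, hF', Atlas.Wt.res hcb hWU, map_mul, map_pow, hbase, hyy,
      ← Polynomial.coeff_map jW, hpc, Polynomial.coeff_C_mul_X_pow, if_pos rfl]
  have hnvF : (U : Set X.left) = GLinSh.nonvanishing B.π F := by
    have h1 : nv Br.π.left (q.left.appTop F) = j.left.base ⁻¹' nv B.π.left F := nv_pull (isPullback_q j hq hle hchart) F
    rw [hqF, nv_pow _ hm, nv_eq, ← hUr, ← hU] at h1
    exact hj.preimage_injective h1
  have hnil : IsNilpotent (B.lift.act.left.appTop F - (snd G B.V).left.appTop F) := by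
    haveI : CompactSpace (G ⊗ B.V).left := by
      haveI : QuasiCompact (G ⊗ B.V).hom := by
        show QuasiCompact (pullback.fst G.hom B.V.hom ≫ G.hom)
        infer_instance
      exact QuasiCompact.compactSpace_of_compactSpace (G ⊗ B.V).hom
    haveI : IsClosedImmersion (G ◁ q).left :=
      MorphismProperty.of_isPullback (P := @IsClosedImmersion) (Quot.isPullback_whiskerLeft_left G q).flip inferInstance
    haveI : Surjective (G ◁ q).left :=
      MorphismProperty.of_isPullback (P := @Surjective) (Quot.isPullback_whiskerLeft_left G q).flip inferInstance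
    refine VarGal.isNilpotent_of_app_eq_zero (G ◁ q).left isCompact_univ ?_
    show (G ◁ q).left.appTop _ = 0
    rw [map_sub, ← CommRingCat.comp_apply, ← CommRingCat.comp_apply, ← Scheme.Hom.comp_appTop,
      ← Scheme.Hom.comp_appTop, ← Over.comp_left, ← Over.comp_left, ← hlift, whiskerLeft_snd, Over.comp_left,
      Over.comp_left, Scheme.Hom.comp_appTop, Scheme.Hom.comp_appTop, CommRingCat.comp_apply, CommRingCat.comp_apply,
      hqF, map_pow, map_pow, show Br.lift.act.left.appTop f = _ from hf.2, sub_self]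
  obtain ⟨m', g, hm', hg, hgnv⟩ := exists_invSection_of_nilpotent hG B (Nat.mul_pos hm hn) hF hnil hnvF hUaff
  exact ⟨m' * (m * n), g, U, Nat.mul_pos hm' (Nat.mul_pos hm hn), hg, hgnv.symm, hUaff, hU⟩

include har in
/-- closedness of orbits is insensitive to reduction -/
theorem closedOrbitsOn_iff [AlgebraicGeometry.IsReduced Xr.left] (hj : Function.Surjective j.left.base)
    (U : X.left.Opens) : GLinSh.ClosedOrbitsOn ar (j.left ⁻¹ᵁ U) ↔ GLinSh.ClosedOrbitsOn a U := by
  haveI : Surjective j.left := ⟨hj⟩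
  have key : ∀ (T : Over (St k)) (fr : T ⟶ Xr),
      (IsClosed ((fun p : (fst Xr T).left ⁻¹ᵁ (j.left ⁻¹ᵁ U) => (p : (Xr ⊗ T).left)) ⁻¹'
          Set.range (GIT.psi ar fr).left.base) ↔
        IsClosed ((fun p : (fst X T).left ⁻¹ᵁ U => (p : (X ⊗ T).left)) ⁻¹'
          Set.range (GIT.psi a (fr ≫ j)).left.base)) := by
    intro T fr
    haveI : IsClosedImmersion (j ▷ T).left :=
      MorphismProperty.of_isPullback (P := @IsClosedImmersion) (Quot.isPullback_whiskerRight_left T j).flip inferInstance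
    haveI : Surjective (j ▷ T).left :=
      MorphismProperty.of_isPullback (P := @Surjective) (Quot.isPullback_whiskerRight_left T j).flip inferInstance
    let h := (VarGal.isHomeomorph_of_surjective (j ▷ T).left).homeomorph
    have e : GIT.psi ar fr ≫ (j ▷ T) = GIT.psi a (fr ≫ j) := by
      apply CartesianMonoidalCategory.hom_ext
      · simp only [GIT.psi, Category.assoc, whiskerRight_fst, lift_fst_assoc, lift_fst]
        rw [har, MonoidalCategory.whiskerLeft_comp_assoc]
      · simp only [GIT.psi, Category.assoc, whiskerRight_snd, lift_snd]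
    have hpre : ∀ p, p ∈ (fst Xr T).left ⁻¹ᵁ (j.left ⁻¹ᵁ U) ↔ h p ∈ (fst X T).left ⁻¹ᵁ U := fun p => by
      show (fst Xr T ≫ j).left p ∈ U ↔ ((j ▷ T) ≫ fst X T).left p ∈ U
      rw [whiskerRight_fst]
    let h' : ((fst Xr T).left ⁻¹ᵁ (j.left ⁻¹ᵁ U) : Set (Xr ⊗ T).left) ≃ₜ ((fst X T).left ⁻¹ᵁ U : Set (X ⊗ T).left) :=
      h.subtype hpre
    refine (h'.symm.isClosed_preimage).symm.trans (iff_of_eq (congrArg IsClosed ?_))
    ext ⟨p, hp⟩
    show h.symm p ∈ Set.range _ ↔ p ∈ Set.range _
    rw [← e, Over.comp_left, Scheme.Hom.comp_base, TopCat.coe_comp, Set.range_comp]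
    constructor
    · intro hr
      exact ⟨h.symm p, hr, h.apply_symm_apply p⟩
    · rintro ⟨z, hz, hzp⟩
      rwa [show h.symm p = z from h.symm_apply_eq.2 hzp.symm]
  constructor
  · intro hc Ω _ _ T eT f hf
    haveI : AlgebraicGeometry.IsReduced T.left := isReduced_of_isOpenImmersion eT.hom
    have hpl := IsPullback.of_hasPullback f.left j.left
    haveI : IsClosedImmersion (pullback.fst f.left j.left) := inferInstance
    haveI : Surjective (pullback.fst f.left j.left) := inferInstance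
    haveI : IsIso (pullback.fst f.left j.left) := isIso_of_isClosedImmersion_of_surjective _
    let fr₀ : T.left ⟶ Xr.left := inv (pullback.fst f.left j.left) ≫ pullback.snd f.left j.left
    have hfr₀ : fr₀ ≫ j.left = f.left := by
      rw [Category.assoc, ← pullback.condition, IsIso.inv_hom_id_assoc]
    let fr : T ⟶ Xr := Over.homMk fr₀ (by rw [← Over.w j, ← Category.assoc, hfr₀]; exact Over.w f)
    have hfr : fr ≫ j = f := Over.OverMorphism.ext hfr₀
    rw [← hfr]
    refine (key T fr).1 (hc Ω T eT fr ?_)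
    rintro _ ⟨t, rfl⟩
    show (fr ≫ j).left t ∈ U
    rw [hfr]
    exact hf ⟨t, rfl⟩
  · intro hc Ω _ _ T eT fr hfr
    refine (key T fr).2 (hc Ω T eT (fr ≫ j) ?_)
    rintro _ ⟨t, rfl⟩
    exact hfr ⟨t, rfl⟩

end Red

end Groth.Agent.GIT36.SSRed
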